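import Groth.Agent.L06.TowerDiag.Alg
import Groth.Agent.L16.QcqsPush
import Groth.Agent.L16.AffineBC.Pullback
import Groth.Agent.L16.HomSh.LocFreeModPow
import Groth.Agent.L17.FormalLimit
import Mathlib.AlgebraicGeometry.Morphisms.FiniteType
import Mathlib.Data.Countable.Basic
import Mathlib.Data.Finsupp.Encodable

/-! Towers of quotients of a countably generated module whose limit is a quotient are stationary,
locally on affine opens. -/

set_option autoImplicit false
set_option linter.style.haveILetI false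
set_option backward.isDefEq.respectTransparency false
set_option backward.isDefEq.respectTransparency.types false

universe u

open CategoryTheory CategoryTheory.Limits TopologicalSpace Opposite AlgebraicGeometry
open Groth.L18.Frame (rs ro rs_rs rs_smul rs_self)

namespace Groth.L06.TowerDiag

/-- A countable spanning set over the ground field. -/
theorem countable_span {k R M : Type u} [Field k] [CommRing R] [Algebra k R] [Algebra.FiniteType k R]
    [AddCommGroup M] [Module R M] [Module k M] [IsScalarTower k R M] (s : Set M) (hs : s.Countable)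
    (hs' : Submodule.span R s = ⊤) :
    ∃ SR : Set R, SR.Countable ∧ Submodule.span k SR = ⊤ ∧
      ∃ SM : Set M, SM.Countable ∧ Submodule.span k SM = ⊤ := by
  obtain ⟨n, π, hπ⟩ := Algebra.FiniteType.iff_quotient_mvPolynomial''.mp
    (inferInstance : Algebra.FiniteType k R)
  let SR : Set R := Set.range fun d : Fin n →₀ ℕ => π (MvPolynomial.monomial d 1)
  have hSR : Submodule.span k SR = ⊤ := by
    rw [eq_top_iff]
    intro r _
    obtain ⟨q, rfl⟩ := hπ r
    induction q using MvPolynomial.induction_on' with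
    | monomial d a =>
      rw [show MvPolynomial.monomial d a = a • MvPolynomial.monomial d (1 : k) by
        rw [MvPolynomial.smul_monomial, smul_eq_mul, mul_one], map_smul]
      exact Submodule.smul_mem _ _ (Submodule.subset_span ⟨d, rfl⟩)
    | add p q hp hq => rw [map_add]; exact Submodule.add_mem _ (hp trivial) (hq trivial)
  refine ⟨SR, Set.countable_range _, hSR, Set.image2 (· • ·) SR s, (Set.countable_range _).image2 hs _, ?_⟩
  · rw [eq_top_iff]
    intro m _
    let S' : Submodule k M := Submodule.span k (Set.image2 (· • ·) SR s)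
    have hmul : ∀ (b : R), ∀ z ∈ s, b • z ∈ S' := by
      intro b z hz
      have h1 : b ∈ Submodule.span k SR := hSR ▸ Submodule.mem_top
      have := Submodule.mem_map_of_mem (f := ((LinearMap.toSpanSingleton R M z).restrictScalars k)) h1
      rw [Submodule.map_span] at this
      refine Submodule.span_mono ?_ this
      rintro _ ⟨r, hr, rfl⟩
      exact ⟨r, hr, z, hz, rfl⟩
    have hstab : ∀ (a : R), ∀ y ∈ S', a • y ∈ S' := by
      intro a
      have h : S' ≤ S'.comap ((LinearMap.lsmul R M a).restrictScalars k) := by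
        refine Submodule.span_le.mpr ?_
        rintro _ ⟨r, -, z, hz, rfl⟩
        show a • (r • z) ∈ S'
        rw [smul_smul]
        exact hmul _ z hz
      exact fun y hy => h hy
    have hm : m ∈ Submodule.span R s := hs' ▸ Submodule.mem_top
    exact (Submodule.span_induction (p := fun y _ => y ∈ S')
      (fun y hy => by simpa using hmul 1 y hy) (zero_mem _)
      (fun y z _ _ hy hz => add_mem hy hz) (fun r y _ hy => hstab r y hy) hm)

/-- Linear form of a map of modules on sections. -/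
noncomputable def appR {X : Scheme.{u}} {M N : X.Modules} (φ : M ⟶ N) (U : X.Opens) :
    Γ(M, U) →ₗ[Γ(X, U)] Γ(N, U) where
  toFun := φ.app U
  map_add' := map_add _
  map_smul' r x := φ.app_smul r x

theorem app_map_comp {X : Scheme.{u}} (Q : ℕᵒᵖ ⥤ X.Modules) (U : X.Opens) {a b c : ℕ} (h₁ : a ≤ b)
    (h₂ : b ≤ c) (x : Γ(Q.obj (op c), U)) :
    (Q.map (homOfLE h₁).op).app U ((Q.map (homOfLE h₂).op).app U x) =
      (Q.map (homOfLE (h₁.trans h₂)).op).app U x :=
  (ConcreteCategory.congr_hom (congrArg (fun t => Scheme.Modules.Hom.app t U)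
    (Q.map_comp (homOfLE h₂).op (homOfLE h₁).op)) x).symm

theorem app_pi {X : Scheme.{u}} {Q : ℕᵒᵖ ⥤ X.Modules} (c : Cone Q) (U : X.Opens) {n m : ℕ} (h : n ≤ m)
    (w : Γ(c.pt, U)) :
    (Q.map (homOfLE h).op).app U ((c.π.app (op m)).app U w) = (c.π.app (op n)).app U w :=
  ConcreteCategory.congr_hom (congrArg (fun t => Scheme.Modules.Hom.app t U) (c.w (homOfLE h).op)) w

theorem exists_injective (k : Type u) [Field k] {X : Scheme.{u}} [X.Over (Spec (CommRingCat.of k))]
    [LocallyOfFiniteType (X ↘ Spec (CommRingCat.of k))]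
    (Q : ℕᵒᵖ ⥤ X.Modules) (hQ : ∀ n : ℕ, Coh.IsQCoh (Q.obj (op n))) (c : Cone Q)
    (hG : Coh.IsQCoh c.pt) (hepi : ∀ n : ℕ, Epi (c.π.app (op n))) (hlim : Epi (limit.lift Q c))
    {U : X.Opens} (hU : IsAffineOpen U) (s : Set Γ(c.pt, U)) (hs : s.Countable)
    (hs' : Submodule.span Γ(X, U) s = ⊤) :
    ∃ N : ℕ, ∀ n, N ≤ n → ∀ v : Γ(Q.obj (op (n + 1)), U),
      (Q.map (homOfLE (Nat.le_succ n)).op).app U v = 0 → v = 0 := by
  haveI := hQ; haveI := hG
  let sc : k →+* Γ(X, U) := Groth.L16.AffineBC.scal k X U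
  letI : Algebra k Γ(X, U) := sc.toAlgebra
  haveI : Algebra.FiniteType k Γ(X, U) := by
    have hft := (X ↘ Spec (CommRingCat.of k)).finiteType_appLE
      (isAffineOpen_top (Spec (CommRingCat.of k))) hU le_top
    have hiso : Function.Surjective (Scheme.ΓSpecIso (CommRingCat.of k)).inv.hom :=
      (ConcreteCategory.bijective_of_isIso (Scheme.ΓSpecIso (CommRingCat.of k)).inv).2
    exact hft.comp (RingHom.FiniteType.of_surjective _ hiso)
  letI : ∀ n, Module k Γ(Q.obj (op n), U) := fun n => Module.compHom _ sc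
  letI : Module k Γ(c.pt, U) := Module.compHom _ sc
  haveI : ∀ n, IsScalarTower k Γ(X, U) Γ(Q.obj (op n), U) := fun n =>
    IsScalarTower.of_algebraMap_smul fun _ _ => rfl
  haveI : IsScalarTower k Γ(X, U) Γ(c.pt, U) := IsScalarTower.of_algebraMap_smul fun _ _ => rfl
  obtain ⟨SR, hSR, hSR', SM, hSM, hSM'⟩ := countable_span (k := k) s hs hs'
  let tr : ∀ {n m : ℕ}, n ≤ m → (Γ(Q.obj (op m), U) →ₗ[Γ(X, U)] Γ(Q.obj (op n), U)) :=
    fun h => appR (Q.map (homOfLE h).op) U
  let π : ∀ n, Γ(c.pt, U) →ₗ[k] Γ(Q.obj (op n), U) := fun n =>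
    (appR (show c.pt ⟶ Q.obj (op n) from c.π.app (op n)) U).restrictScalars k
  obtain ⟨x, hx, hkill⟩ := exists_family tr π (fun h₁ h₂ y => app_map_comp Q U h₁ h₂ y)
    (fun n y => ConcreteCategory.congr_hom (congrArg (fun t => Scheme.Modules.Hom.app t U) (Q.map_id (op n))) y)
    (fun n m h => by
      haveI := hepi n
      haveI : Epi (Q.map (homOfLE h).op) := epi_of_epi_fac (c.w (homOfLE h).op)
      exact Groth.L16.AffineBC.surjective_app_of_epi _ hU)
    (fun n m h w => app_pi c U h w) SR hSR hSR' SM hSM hSM'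
  obtain ⟨y, hy⟩ := Groth.L17.FormalLimit.sect_lift Q U x hx
  -- some lift lives on a basic open
  have hloc : ∀ z : X, z ∈ U → ∃ (f : Γ(X, U)), z ∈ X.basicOpen f ∧ ∃ g : Γ(c.pt, X.basicOpen f),
      (limit.lift Q c).app (X.basicOpen f) g = rs (limit Q) (X.basicOpen_le f) y := by
    intro z hz
    obtain ⟨W, hW, t, hzW, ht⟩ := Groth.L16.HomSh.exists_local_lift (limit.lift Q c) y hz
    obtain ⟨f, hfW, hzf⟩ := hU.exists_basicOpen_le (V := W) ⟨z, hzW⟩ hz
    refine ⟨f, hzf, rs c.pt hfW t, ?_⟩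
    rw [Groth.L16.HomSh.app_rs, ht, rs_rs]
  have hgood : ∀ (f : Γ(X, U)) (g : Γ(c.pt, X.basicOpen f)),
      (limit.lift Q c).app (X.basicOpen f) g = rs (limit Q) (X.basicOpen_le f) y → ¬ Bad tr f := by
    intro f g hg hbad
    obtain ⟨m, g₀, hg₀⟩ := Groth.L16.QcqsPush.exists_pow_smul_eq_res c.pt hU.isCompact
      hU.isQuasiSeparated f g
    have hbad' : Bad tr (f ^ (m + 1)) := fun N => by
      obtain ⟨n, hn, v, hv, hvm⟩ := hbad N
      exact ⟨n, hn, v, hv, fun j => by rw [← pow_mul]; exact hvm _⟩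
    obtain ⟨n, hn⟩ := hkill (f ^ (m + 1)) (f • g₀) hbad'
    have hzero : rs (Q.obj (op n)) (X.basicOpen_le f)
        ((f ^ (m + 1)) • x n - π n (f • g₀)) = 0 := by
      have h1 : rs (Q.obj (op n)) (X.basicOpen_le f) (x n) = (c.π.app (op n)).app (X.basicOpen f) g := by
        rw [← hy n]
        have h2 := congrArg ((limit.π Q (op n)).app (X.basicOpen f)) hg
        rw [Groth.L16.HomSh.app_rs] at h2
        rw [← h2]
        exact (ConcreteCategory.congr_hom (congrArg
          (fun t => Scheme.Modules.Hom.app t (X.basicOpen f)) (limit.lift_π c (op n))) g)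
      show rs (Q.obj (op n)) (X.basicOpen_le f) ((f ^ (m + 1)) • x n - (c.π.app (op n)).app U (f • g₀)) = 0
      refine (map_sub ((Q.obj (op n)).presheaf.map (homOfLE (X.basicOpen_le f)).op).hom _ _).trans ?_
      show rs (Q.obj (op n)) (X.basicOpen_le f) (f ^ (m + 1) • x n) -
        rs (Q.obj (op n)) (X.basicOpen_le f) ((c.π.app (op n)).app U (f • g₀)) = 0
      let ψ : c.pt ⟶ Q.obj (op n) := c.π.app (op n)
      have e2 : rs (Q.obj (op n)) (X.basicOpen_le f) (ψ.app U (f • g₀)) =
          ro (X.basicOpen_le f) (f ^ (m + 1)) • ψ.app (X.basicOpen f) g := by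
        rw [← Groth.L16.HomSh.app_rs, rs_smul, hg₀, smul_smul, Scheme.Modules.Hom.app_smul, pow_succ']
        erw [← map_mul]
      rw [rs_smul, h1]
      refine (congrArg (fun q => _ - q) e2).trans ?_
      exact sub_self _
    obtain ⟨j, hj⟩ := Groth.L16.QcqsPush.exists_pow_smul_eq_zero (Q.obj (op n)) hU.isCompact f _ hzero
    refine hn j ?_
    show (f ^ (m + 1)) ^ j • _ = 0
    rw [← pow_mul, show (m + 1) * j = m * j + j by ring, pow_add, mul_smul, hj, smul_zero]
  choose f hzf hg using hloc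
  obtain ⟨T, hT⟩ := hU.isCompact.elim_finite_subcover
    (fun z : U => (X.basicOpen (f z.1 z.2) : Set X)) (fun z => (X.basicOpen (f z.1 z.2)).2)
    (fun z hz => Set.mem_iUnion.2 ⟨⟨z, hz⟩, hzf z hz⟩)
  have hnb : ∀ z : U, ∃ N, ∀ n, N ≤ n → ∀ v : Γ(Q.obj (op (n + 1)), U),
      tr (Nat.le_succ n) v = 0 → ∃ m : ℕ, f z.1 z.2 ^ m • v = 0 := fun z => by
    obtain ⟨g, hg'⟩ := hg z.1 z.2
    have h := hgood _ g hg'
    unfold Bad at h
    push Not at h
    exact h
  choose N hN using hnb
  refine ⟨T.sup N, fun n hn v hv => ?_⟩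
  refine TopCat.Sheaf.eq_of_locally_eq' (⟨(Q.obj (op (n + 1))).presheaf, (Q.obj (op (n + 1))).isSheaf⟩ :
    TopCat.Sheaf Ab X.toTopCat) (fun z : T => X.basicOpen (f z.1.1 z.1.2)) U
    (fun z => homOfLE (X.basicOpen_le _)) (fun z hz => by
      obtain ⟨w, hw⟩ := Set.mem_iUnion.1 (hT hz)
      obtain ⟨hwT, hzw⟩ := Set.mem_iUnion.1 hw
      exact Opens.mem_iSup.2 ⟨⟨w, hwT⟩, hzw⟩) v 0 fun z => ?_
  obtain ⟨m, hm⟩ := hN z.1 n ((Finset.le_sup z.2).trans hn) v hv
  show rs (Q.obj (op (n + 1))) (X.basicOpen_le _) v = rs (Q.obj (op (n + 1))) (X.basicOpen_le _) 0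
  have h2 := congrArg (rs (Q.obj (op (n + 1))) (X.basicOpen_le (f z.1.1 z.1.2))) hm
  rw [rs_smul] at h2
  have hu : IsUnit (ro (X.basicOpen_le (f z.1.1 z.1.2)) (f z.1.1 z.1.2 ^ m)) := by
    show IsUnit (X.presheaf.map _ (_ ^ m))
    rw [map_pow]
    exact (RingedSpace.isUnit_res_basicOpen _ _).pow m
  have h0 : rs (Q.obj (op (n + 1))) (X.basicOpen_le (f z.1.1 z.1.2)) 0 = 0 :=
    map_zero ((Q.obj (op (n + 1))).presheaf.map (homOfLE (X.basicOpen_le (f z.1.1 z.1.2))).op).hom
  exact hu.smul_left_cancel.1 (h2.trans (by rw [h0, smul_zero]))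

end Groth.L06.TowerDiag
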