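import Mathlib.LinearAlgebra.FiniteDimensional.Lemmas
import Mathlib.RingTheory.Localization.Away.Basic
import Mathlib.Data.Set.Countable
import Mathlib.LinearAlgebra.Prod

/-! A diagonal argument: an inverse limit of surjections is not exhausted by countably many
dimensions, away from where the tower is stationary. -/

set_option autoImplicit false
set_option linter.style.haveILetI false

universe u

namespace Groth.L06.TowerDiag

variable {k : Type u} [Field k] {R : Type u} [CommRing R] [Algebra k R]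
  {Q : ℕ → Type u} [∀ n, AddCommGroup (Q n)] [∀ n, Module R (Q n)] [∀ n, Module k (Q n)]
  [∀ n, IsScalarTower k R (Q n)]
  (tr : ∀ {n m : ℕ}, n ≤ m → (Q m →ₗ[R] Q n))
  {W : Type u} [AddCommGroup W] [Module k W] (π : ∀ n, W →ₗ[k] Q n)

/-- `f` is bad: the tower is not eventually constant after inverting `f`. -/
def Bad (f : R) : Prop :=
  ∀ N, ∃ n, N ≤ n ∧ ∃ v : Q (n + 1), tr (Nat.le_succ n) v = 0 ∧ ∀ m : ℕ, f ^ m • v ≠ 0

/-- The pair `(f, w)` is killed at stage `n` by `x`: `f • x` differs from `w` where `f` is invertible. -/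
def Killed (n : ℕ) (x : Q n) (a : R × W) : Prop :=
  ∀ m : ℕ, a.1 ^ m • (a.1 • x - π n a.2) ≠ 0

variable (htr : ∀ {a b c : ℕ} (h₁ : a ≤ b) (h₂ : b ≤ c) (x : Q c),
  tr h₁ (tr h₂ x) = tr (h₁.trans h₂) x) (hid : ∀ (n : ℕ) (x : Q n), tr (le_refl n) x = x)
  (hsurj : ∀ (n m : ℕ) (h : n ≤ m), Function.Surjective (tr h))
  (hπ : ∀ (n m : ℕ) (h : n ≤ m) (w : W), tr h (π m w) = π n w)

include hπ in
theorem killed_mono {n m : ℕ} (h : n ≤ m) {x : Q n} {x' : Q m} (hx : tr h x' = x) {a : R × W}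
    (hk : Killed π n x a) : Killed π m x' a := fun j hj => hk j (by
  have := congrArg (tr h) hj
  rwa [map_smul, map_sub, map_smul, hx, hπ n m h, map_zero] at this)

/-- The pairs equal to `x` in the localization at a prime. -/
def eqAt (P : Ideal R) [hP : P.IsPrime] (n : ℕ) (x : Q n) : Submodule k (R × W) where
  carrier := {a | ∃ s : R, s ∉ P ∧ s • (a.1 • x - π n a.2) = 0}
  zero_mem' := ⟨1, fun h => hP.ne_top (P.eq_top_iff_one.mpr h), by simp⟩
  add_mem' := by
    rintro a b ⟨s, hs, h⟩ ⟨t, ht, h'⟩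
    refine ⟨s * t, fun hst => (hP.mem_or_mem hst).elim hs ht, ?_⟩
    have e : (a + b).1 • x - π n (a + b).2 = (a.1 • x - π n a.2) + (b.1 • x - π n b.2) := by
      simp only [Prod.fst_add, Prod.snd_add, map_add, add_smul]; abel
    rw [e, smul_add, mul_comm s t, mul_smul, h, smul_zero, zero_add, mul_comm t s, mul_smul, h',
      smul_zero]
  smul_mem' := by
    rintro c a ⟨s, hs, h⟩
    refine ⟨s, hs, ?_⟩
    have e : (c • a).1 • x - π n (c • a).2 = algebraMap k R c • (a.1 • x - π n a.2) := by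
      rw [Prod.smul_fst, Prod.smul_snd, map_smul, smul_sub, smul_smul, Algebra.smul_def,
        ← algebraMap_smul R c (π n a.2)]
    rw [e, smul_comm, h, smul_zero]

include htr hid hsurj hπ in
theorem exists_killed (T : Submodule k (R × W)) [FiniteDimensional k T] :
    ∀ (n : ℕ) (x : Q n), ∃ (m : ℕ) (h : n ≤ m) (x' : Q m), tr h x' = x ∧
      ∀ a ∈ T, Bad tr a.1 → Killed π m x' a := by
  induction hd : Module.finrank k T using Nat.strong_induction_on generalizing T with
  | _ d ih =>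
    intro n x
    by_cases hb : ∃ a ∈ T, Bad tr a.1
    swap
    · exact ⟨n, le_rfl, x, hid n x, fun a ha hbad => absurd ⟨a, ha, hbad⟩ hb⟩
    obtain ⟨a₀, ha₀, hbad⟩ := hb
    obtain ⟨m, hnm, v, hv, hvf⟩ := hbad n
    obtain ⟨y, hy⟩ := hsurj n (m + 1) (hnm.trans (Nat.le_succ m)) x
    have hy' : tr (hnm.trans (Nat.le_succ m)) (y + v) = x := by
      rw [map_add, hy, ← htr hnm (Nat.le_succ m) v, hv, map_zero, add_zero]
    -- a prime where `a₀.1` is invertible and `v` survives
    obtain ⟨P, hP, hPann, hPf⟩ : ∃ P : Ideal R, P.IsPrime ∧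
        LinearMap.ker (LinearMap.toSpanSingleton R (Q (m + 1)) v) ≤ P ∧ a₀.1 ∉ P := by
      obtain ⟨P, hP, hle, hdisj⟩ := Ideal.exists_le_prime_disjoint
        (LinearMap.ker (LinearMap.toSpanSingleton R (Q (m + 1)) v)) (Submonoid.powers a₀.1)
        (Set.disjoint_left.mpr fun r hr hr' => by
          obtain ⟨j, rfl⟩ := hr'
          exact hvf j hr)
      exact ⟨P, hP, hle, Set.disjoint_right.mp hdisj (Submonoid.mem_powers a₀.1)⟩
    haveI := hP
    -- one of the two lifts separates `a₀`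
    obtain ⟨z, hz, hza⟩ : ∃ z : Q (m + 1), tr (hnm.trans (Nat.le_succ m)) z = x ∧
        a₀ ∉ eqAt (k := k) π P (m + 1) z := by
      by_contra hcon
      push Not at hcon
      obtain ⟨s, hs, h⟩ := hcon y hy
      obtain ⟨t, ht, h'⟩ := hcon (y + v) hy'
      have h0 : (s * t * a₀.1) • v = 0 := by
        have e : a₀.1 • v = (a₀.1 • (y + v) - π (m + 1) a₀.2) - (a₀.1 • y - π (m + 1) a₀.2) := by
          rw [smul_add]; abel
        rw [mul_smul, e, smul_sub, mul_smul s t, h', smul_zero, mul_comm s t, mul_smul t s, h,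
          smul_zero, sub_zero]
      have hmem : s * t * a₀.1 ∈ P := hPann (by
        rw [LinearMap.mem_ker, LinearMap.toSpanSingleton_apply, h0])
      exact (hP.mem_or_mem hmem).elim (fun h => (hP.mem_or_mem h).elim hs ht) hPf
    let T₁ : Submodule k (R × W) := T ⊓ eqAt (k := k) π P (m + 1) z
    let T₂ : Submodule k (R × W) := T ⊓ (P.restrictScalars k).comap (LinearMap.fst k R W)
    have hT₁ : Module.finrank k T₁ < d := hd ▸ Submodule.finrank_lt_finrank_of_lt
      (lt_of_le_of_ne inf_le_left fun e => hza ((e.ge ha₀ : a₀ ∈ T₁).2))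
    have hT₂ : Module.finrank k T₂ < d := hd ▸ Submodule.finrank_lt_finrank_of_lt
      (lt_of_le_of_ne inf_le_left fun e => hPf ((e.ge ha₀ : a₀ ∈ T₂).2))
    haveI : FiniteDimensional k T₁ := Submodule.finiteDimensional_of_le inf_le_left
    haveI : FiniteDimensional k T₂ := Submodule.finiteDimensional_of_le inf_le_left
    obtain ⟨m₁, hm₁, x₁, hx₁, hk₁⟩ := ih _ hT₁ T₁ rfl (m + 1) z
    obtain ⟨m₂, hm₂, x₂, hx₂, hk₂⟩ := ih _ hT₂ T₂ rfl m₁ x₁
    refine ⟨m₂, (hnm.trans (Nat.le_succ m)).trans (hm₁.trans hm₂), x₂, ?_, fun a ha hba => ?_⟩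
    · rw [← htr (hnm.trans (Nat.le_succ m)) (hm₁.trans hm₂), ← htr hm₁ hm₂, hx₂, hx₁, hz]
    by_cases h2 : a.1 ∈ P
    · exact hk₂ a ⟨ha, h2⟩ hba
    by_cases h1 : a ∈ eqAt (k := k) π P (m + 1) z
    · exact killed_mono tr π hπ hm₂ hx₂ (hk₁ a ⟨ha, h1⟩ hba)
    refine killed_mono tr π hπ (hm₁.trans hm₂) (by rw [← htr hm₁ hm₂, hx₂, hx₁]) fun j hj => h1 ?_
    exact ⟨a.1 ^ j, fun h => h2 (hP.mem_of_pow_mem j h), hj⟩

include htr hid hsurj hπ in
/-- There is a compatible family separated, away from the stationary locus, from a space of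
countable dimension. -/
theorem exists_family (SR : Set R) (hSR : SR.Countable) (hSR' : Submodule.span k SR = ⊤)
    (SW : Set W) (hSW : SW.Countable) (hSW' : Submodule.span k SW = ⊤) :
    ∃ x : ∀ n, Q n, (∀ n, tr (Nat.le_succ n) (x (n + 1)) = x n) ∧
      ∀ (f : R) (w : W), Bad tr f → ∃ n, Killed π n (x n) (f, w) := by
  classical
  let S : Set (R × W) := insert 0 (((fun r => (r, (0 : W))) '' SR) ∪ ((fun w => ((0 : R), w)) '' SW))
  obtain ⟨e, he⟩ := ((((hSR.image _).union (hSW.image _)).insert 0 : S.Countable)).exists_eq_range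
    ⟨0, Set.mem_insert _ _⟩
  let T : ℕ → Submodule k (R × W) := fun j => Submodule.span k ↑((Finset.range j).image e)
  have hTall : ∀ a : R × W, ∃ j, a ∈ T j := by
    intro a
    have htop : Submodule.span k (Set.range e) = ⊤ := by
      rw [← he, eq_top_iff]
      rintro ⟨r, w⟩ -
      have h1 : (r, (0 : W)) ∈ Submodule.span k S := by
        have hr : r ∈ Submodule.span k SR := hSR' ▸ Submodule.mem_top
        have hm := Submodule.mem_map_of_mem (f := LinearMap.inl k R W) hr
        rw [Submodule.map_span] at hm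
        exact Submodule.span_mono (fun b hb => Or.inr (Or.inl hb)) hm
      have h2 : ((0 : R), w) ∈ Submodule.span k S := by
        have hw : w ∈ Submodule.span k SW := hSW' ▸ Submodule.mem_top
        have hm := Submodule.mem_map_of_mem (f := LinearMap.inr k R W) hw
        rw [Submodule.map_span] at hm
        exact Submodule.span_mono (fun b hb => Or.inr (Or.inr hb)) hm
      have h3 := add_mem h1 h2
      rwa [Prod.mk_add_mk, add_zero, zero_add] at h3
    have ha : a ∈ Submodule.span k (Set.range e) := htop ▸ Submodule.mem_top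
    rw [Finsupp.mem_span_range_iff_exists_finsupp] at ha
    obtain ⟨c, rfl⟩ := ha
    obtain ⟨j, hj⟩ := c.support.bddAbove
    exact ⟨j + 1, Submodule.sum_mem _ fun i hi => Submodule.smul_mem _ _
      (Submodule.subset_span (Finset.mem_image_of_mem e (Finset.mem_range.mpr (Nat.lt_succ_of_le (hj hi)))))⟩
  haveI : ∀ j, FiniteDimensional k (T j) := fun j => FiniteDimensional.span_finset k _
  -- successive stages
  have hstep : ∀ (j : ℕ) (s : Σ n, Q n), ∃ s' : Σ n, Q n, ∃ h : s.1 ≤ s'.1,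
      tr h s'.2 = s.2 ∧ j ≤ s'.1 ∧ ∀ a ∈ T j, Bad tr a.1 → Killed π s'.1 s'.2 a := by
    intro j s
    obtain ⟨m, hm, x', hx', hk⟩ := exists_killed tr π htr hid hsurj hπ (T j) s.1 s.2
    obtain ⟨y, hy⟩ := hsurj m (m + j) (Nat.le_add_right m j) x'
    exact ⟨⟨m + j, y⟩, hm.trans (Nat.le_add_right m j), by rw [← htr hm (Nat.le_add_right m j), hy, hx'],
      Nat.le_add_left j m, fun a ha hb => killed_mono tr π hπ _ hy (hk a ha hb)⟩
  choose next hle htrn hjle hkill using hstep
  let st : ℕ → Σ n, Q n := fun j => Nat.rec (motive := fun _ => Σ n, Q n) ⟨0, 0⟩ (fun j s => next j s) j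
  have hN : ∀ j, j ≤ (st (j + 1)).1 := fun j => hjle j (st j)
  let x : ∀ n, Q n := fun n => tr (hN n) (st (n + 1)).2
  have hst : ∀ (i j : ℕ), i ≤ j → ∃ h : (st i).1 ≤ (st j).1, tr h (st j).2 = (st i).2 := by
    intro i j hij
    induction hij with
    | refl => exact ⟨le_rfl, hid _ _⟩
    | @step j _ ih =>
      obtain ⟨h, e⟩ := ih
      exact ⟨h.trans (hle j (st j)), by
        show tr (h.trans (hle j (st j))) (next j (st j)).2 = _
        rw [← htr h (hle j (st j)), htrn j (st j), e]⟩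
  refine ⟨x, fun n => ?_, fun f w hf => ?_⟩
  · obtain ⟨h, e⟩ := hst (n + 1) (n + 2) (Nat.le_succ _)
    show tr (Nat.le_succ n) (tr (hN (n + 1)) (st (n + 2)).2) = tr (hN n) (st (n + 1)).2
    rw [htr, ← e, htr]
  · obtain ⟨j, hj⟩ := hTall (f, w)
    refine ⟨(st (j + 1)).1, ?_⟩
    have hk := hkill j (st j) (f, w) hj hf
    have hx : x (st (j + 1)).1 = (st (j + 1)).2 := by
      have key : ∀ n (hn : (st (j + 1)).1 ≤ (st (n + 1)).1) (hn' : n = (st (j + 1)).1),
          tr (hn'.ge.trans (hN n)) (st (n + 1)).2 = (st (j + 1)).2 := by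
        intro n hn hn'
        obtain ⟨h, e⟩ := hst (j + 1) (n + 1) (by rw [hn']; exact Nat.succ_le_succ (hjle j (st j)))
        exact e
      exact key _ (hN _) rfl
    rw [hx]
    exact hk

end Groth.L06.TowerDiag
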