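import Mathlib.LinearAlgebra.FiniteDimensional.Lemmas
import Mathlib.RingTheory.Localization.Away.Basic
import Mathlib.Data.Set.Countable
import Mathlib.LinearAlgebra.Prod

/-! The diagonal argument for countably many localizations of a tower at once. -/

set_option autoImplicit false
set_option linter.style.haveILetI false

universe u v

namespace Groth.L06.TowerDiag.Loc

variable {k : Type u} [Field k] {R : Type u} [CommRing R] [Algebra k R]
  {Q : ℕ → Type u} [∀ n, AddCommGroup (Q n)] [∀ n, Module R (Q n)]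
  (tr : ∀ {n m : ℕ}, n ≤ m → (Q m →ₗ[R] Q n))
  {C : Type v} (g : C → R)
  {Q' : C → ℕ → Type u} [∀ c n, AddCommGroup (Q' c n)] [∀ c n, Module R (Q' c n)]
  (tr' : ∀ (c : C) {n m : ℕ}, n ≤ m → (Q' c m →ₗ[R] Q' c n))
  (ρ : ∀ c n, Q n →ₗ[R] Q' c n)
  {W : C → Type u} [∀ c, AddCommGroup (W c)] [∀ c, Module R (W c)] [∀ c, Module k (W c)]
  [∀ c, IsScalarTower k R (W c)]
  (π : ∀ c n, W c →ₗ[R] Q' c n)

/-- The tower is not eventually constant on the basic open of `f`. -/
def Bad (f : R) : Prop :=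
  ∀ N, ∃ n, N ≤ n ∧ ∃ v : Q (n + 1), tr (Nat.le_succ n) v = 0 ∧ ∀ m : ℕ, f ^ m • v ≠ 0

/-- The pair `(f, w)` is separated from `x` at stage `n` in the chart `c`. -/
def Killed (c : C) (n : ℕ) (x : Q n) (a : R × W c) : Prop :=
  ∀ m : ℕ, a.1 ^ m • (a.1 • ρ c n x - π c n a.2) ≠ 0

variable (htr : ∀ {a b c : ℕ} (h₁ : a ≤ b) (h₂ : b ≤ c) (x : Q c),
  tr h₁ (tr h₂ x) = tr (h₁.trans h₂) x) (hid : ∀ (n : ℕ) (x : Q n), tr (le_refl n) x = x)
  (hsurj : ∀ (n m : ℕ) (h : n ≤ m), Function.Surjective (tr h))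
  (hρ : ∀ (c : C) (n m : ℕ) (h : n ≤ m) (x : Q m), tr' c h (ρ c m x) = ρ c n (tr h x))
  (hker : ∀ (c : C) (n : ℕ) (x : Q n), ρ c n x = 0 → ∃ e : ℕ, g c ^ e • x = 0)
  (hπ : ∀ (c : C) (n m : ℕ) (h : n ≤ m) (w : W c), tr' c h (π c m w) = π c n w)

include hρ hπ in
theorem killed_mono (c : C) {n m : ℕ} (h : n ≤ m) {x : Q n} {x' : Q m} (hx : tr h x' = x)
    {a : R × W c} (hk : Killed ρ π c n x a) : Killed ρ π c m x' a := fun j hj => hk j (by
  have := congrArg (tr' c h) hj
  rwa [map_smul, map_sub, map_smul, hρ, hx, hπ, map_zero] at this)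

/-- The pairs equal to `x` at a prime. -/
def eqAt (c : C) (P : Ideal R) [hP : P.IsPrime] (n : ℕ) (x : Q n) : Submodule k (R × W c) where
  carrier := {a | ∃ s : R, s ∉ P ∧ s • (a.1 • ρ c n x - π c n a.2) = 0}
  zero_mem' := ⟨1, fun h => hP.ne_top (P.eq_top_iff_one.mpr h), by simp⟩
  add_mem' := by
    rintro a b ⟨s, hs, h⟩ ⟨t, ht, h'⟩
    refine ⟨s * t, fun hst => (hP.mem_or_mem hst).elim hs ht, ?_⟩
    have e : (a + b).1 • ρ c n x - π c n (a + b).2 =
        (a.1 • ρ c n x - π c n a.2) + (b.1 • ρ c n x - π c n b.2) := by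
      simp only [Prod.fst_add, Prod.snd_add, map_add, add_smul]; abel
    rw [e, smul_add, mul_comm s t, mul_smul, h, smul_zero, zero_add, mul_comm t s, mul_smul, h',
      smul_zero]
  smul_mem' := by
    rintro r a ⟨s, hs, h⟩
    refine ⟨s, hs, ?_⟩
    have e : (r • a).1 • ρ c n x - π c n (r • a).2 =
        algebraMap k R r • (a.1 • ρ c n x - π c n a.2) := by
      rw [Prod.smul_fst, Prod.smul_snd, ← algebraMap_smul R r a.2, map_smul, smul_sub, smul_smul,
        Algebra.smul_def]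
    rw [e, smul_comm, h, smul_zero]

include htr hid hsurj hρ hker hπ in
theorem exists_killed (c : C) (T : Submodule k (R × W c)) [FiniteDimensional k T] :
    ∀ (n : ℕ) (x : Q n), ∃ (m : ℕ) (h : n ≤ m) (x' : Q m), tr h x' = x ∧
      ∀ a ∈ T, Bad tr (g c * a.1) → Killed ρ π c m x' a := by
  induction hd : Module.finrank k T using Nat.strong_induction_on generalizing T with
  | _ d ih =>
    intro n x
    by_cases hb : ∃ a ∈ T, Bad tr (g c * a.1)
    swap
    · exact ⟨n, le_rfl, x, hid n x, fun a ha hbad => absurd ⟨a, ha, hbad⟩ hb⟩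
    obtain ⟨a₀, ha₀, hbad⟩ := hb
    obtain ⟨m, hnm, v, hv, hvf⟩ := hbad n
    obtain ⟨y, hy⟩ := hsurj n (m + 1) (hnm.trans (Nat.le_succ m)) x
    have hy' : tr (hnm.trans (Nat.le_succ m)) (y + v) = x := by
      rw [map_add, hy, ← htr hnm (Nat.le_succ m) v, hv, map_zero, add_zero]
    obtain ⟨P, hP, hPann, hPf⟩ : ∃ P : Ideal R, P.IsPrime ∧
        LinearMap.ker (LinearMap.toSpanSingleton R (Q (m + 1)) v) ≤ P ∧ g c * a₀.1 ∉ P := by
      obtain ⟨P, hP, hle, hdisj⟩ := Ideal.exists_le_prime_disjoint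
        (LinearMap.ker (LinearMap.toSpanSingleton R (Q (m + 1)) v)) (Submonoid.powers (g c * a₀.1))
        (Set.disjoint_left.mpr fun r hr hr' => by
          obtain ⟨j, rfl⟩ := hr'
          exact hvf j hr)
      exact ⟨P, hP, hle, Set.disjoint_right.mp hdisj (Submonoid.mem_powers _)⟩
    haveI := hP
    have hPg : g c ∉ P := fun h => hPf (P.mul_mem_right _ h)
    have hPa : a₀.1 ∉ P := fun h => hPf (P.mul_mem_left _ h)
    obtain ⟨z, hz, hza⟩ : ∃ z : Q (m + 1), tr (hnm.trans (Nat.le_succ m)) z = x ∧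
        a₀ ∉ eqAt (k := k) ρ π c P (m + 1) z := by
      by_contra hcon
      push Not at hcon
      obtain ⟨s, hs, h⟩ := hcon y hy
      obtain ⟨t, ht, h'⟩ := hcon (y + v) hy'
      have h0 : ρ c (m + 1) ((s * t * a₀.1) • v) = 0 := by
        have e : a₀.1 • ρ c (m + 1) v = (a₀.1 • ρ c (m + 1) (y + v) - π c (m + 1) a₀.2) -
            (a₀.1 • ρ c (m + 1) y - π c (m + 1) a₀.2) := by
          rw [map_add, smul_add]; abel
        rw [map_smul, mul_smul, e, smul_sub, mul_smul s t, h', smul_zero, mul_comm s t, mul_smul t s, h,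
          smul_zero, sub_zero]
      obtain ⟨e, he⟩ := hker c _ _ h0
      have hmem : g c ^ e * (s * t * a₀.1) ∈ P := hPann (by
        rw [LinearMap.mem_ker, LinearMap.toSpanSingleton_apply, mul_smul, he])
      exact (hP.mem_or_mem hmem).elim (fun h => hPg (hP.mem_of_pow_mem e h))
        fun h => (hP.mem_or_mem h).elim (fun h => (hP.mem_or_mem h).elim hs ht) hPa
    let T₁ : Submodule k (R × W c) := T ⊓ eqAt (k := k) ρ π c P (m + 1) z
    let T₂ : Submodule k (R × W c) := T ⊓ (P.restrictScalars k).comap (LinearMap.fst k R (W c))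
    have hT₁ : Module.finrank k T₁ < d := hd ▸ Submodule.finrank_lt_finrank_of_lt
      (lt_of_le_of_ne inf_le_left fun e => hza ((e.ge ha₀ : a₀ ∈ T₁).2))
    have hT₂ : Module.finrank k T₂ < d := hd ▸ Submodule.finrank_lt_finrank_of_lt
      (lt_of_le_of_ne inf_le_left fun e => hPa ((e.ge ha₀ : a₀ ∈ T₂).2))
    haveI : FiniteDimensional k T₁ := Submodule.finiteDimensional_of_le inf_le_left
    haveI : FiniteDimensional k T₂ := Submodule.finiteDimensional_of_le inf_le_left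
    obtain ⟨m₁, hm₁, x₁, hx₁, hk₁⟩ := ih _ hT₁ T₁ rfl (m + 1) z
    obtain ⟨m₂, hm₂, x₂, hx₂, hk₂⟩ := ih _ hT₂ T₂ rfl m₁ x₁
    refine ⟨m₂, (hnm.trans (Nat.le_succ m)).trans (hm₁.trans hm₂), x₂, ?_, fun a ha hba => ?_⟩
    · rw [← htr (hnm.trans (Nat.le_succ m)) (hm₁.trans hm₂), ← htr hm₁ hm₂, hx₂, hx₁, hz]
    by_cases h2 : a.1 ∈ P
    · exact hk₂ a ⟨ha, h2⟩ hba
    by_cases h1 : a ∈ eqAt (k := k) ρ π c P (m + 1) z
    · exact killed_mono tr tr' ρ π hρ hπ c hm₂ hx₂ (hk₁ a ⟨ha, h1⟩ hba)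
    refine killed_mono tr tr' ρ π hρ hπ c (hm₁.trans hm₂) (by rw [← htr hm₁ hm₂, hx₂, hx₁])
      fun j hj => h1 ?_
    exact ⟨a.1 ^ j, fun h => h2 (hP.mem_of_pow_mem j h), hj⟩

include htr hid hsurj hρ hker hπ in
/-- A compatible family separated from countably many spaces of countable dimension. -/
theorem exists_family [Countable C] [Nonempty C] (SR : Set R) (hSR : SR.Countable)
    (hSR' : Submodule.span k SR = ⊤) (SW : ∀ c, Set (W c)) (hSW : ∀ c, (SW c).Countable)
    (hSW' : ∀ c, Submodule.span k (SW c) = ⊤) :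
    ∃ x : ∀ n, Q n, (∀ n, tr (Nat.le_succ n) (x (n + 1)) = x n) ∧
      ∀ (c : C) (f : R) (w : W c), Bad tr (g c * f) → ∃ n, Killed ρ π c n (x n) (f, w) := by
  classical
  have hT : ∀ c : C, ∃ T : ℕ → Submodule k (R × W c),
      (∀ j, FiniteDimensional k (T j)) ∧ ∀ a : R × W c, ∃ j₀, ∀ j, j₀ ≤ j → a ∈ T j := by
    intro c
    let S : Set (R × W c) := insert 0
      (((fun r => (r, (0 : W c))) '' SR) ∪ ((fun w => ((0 : R), w)) '' SW c))
    obtain ⟨e, he⟩ := ((((hSR.image _).union ((hSW c).image _)).insert 0 : S.Countable)).exists_eq_range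
      ⟨0, Set.mem_insert _ _⟩
    refine ⟨fun j => Submodule.span k ↑((Finset.range j).image e),
      fun j => FiniteDimensional.span_finset k _, fun a => ?_⟩
    have htop : Submodule.span k (Set.range e) = ⊤ := by
      rw [← he, eq_top_iff]
      rintro ⟨r, w⟩ -
      have h1 : (r, (0 : W c)) ∈ Submodule.span k S := by
        have hr : r ∈ Submodule.span k SR := hSR' ▸ Submodule.mem_top
        have hm := Submodule.mem_map_of_mem (f := LinearMap.inl k R (W c)) hr
        rw [Submodule.map_span] at hm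
        exact Submodule.span_mono (fun b hb => Or.inr (Or.inl hb)) hm
      have h2 : ((0 : R), w) ∈ Submodule.span k S := by
        have hw : w ∈ Submodule.span k (SW c) := hSW' c ▸ Submodule.mem_top
        have hm := Submodule.mem_map_of_mem (f := LinearMap.inr k R (W c)) hw
        rw [Submodule.map_span] at hm
        exact Submodule.span_mono (fun b hb => Or.inr (Or.inr hb)) hm
      have h3 := add_mem h1 h2
      rwa [Prod.mk_add_mk, add_zero, zero_add] at h3
    have ha : a ∈ Submodule.span k (Set.range e) := htop ▸ Submodule.mem_top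
    rw [Finsupp.mem_span_range_iff_exists_finsupp] at ha
    obtain ⟨d, rfl⟩ := ha
    obtain ⟨j, hj⟩ := d.support.bddAbove
    exact ⟨j + 1, fun j' hj' => Submodule.sum_mem _ fun i hi => Submodule.smul_mem _ _
      (Submodule.subset_span (Finset.mem_image_of_mem e
        (Finset.mem_range.mpr ((Nat.lt_succ_of_le (hj hi)).trans_le hj'))))⟩
  choose T hTfin hTall using hT
  obtain ⟨enum, henum⟩ := exists_surjective_nat C
  -- at step `j` the chart is `enum (unpair j).1`
  let cj : ℕ → C := fun j => enum j.unpair.1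
  have hstep : ∀ (j : ℕ) (s : Σ n, Q n), ∃ s' : Σ n, Q n, ∃ h : s.1 ≤ s'.1,
      tr h s'.2 = s.2 ∧ j ≤ s'.1 ∧ ∀ a ∈ T (cj j) j.unpair.2, Bad tr (g (cj j) * a.1) →
        Killed ρ π (cj j) s'.1 s'.2 a := by
    intro j s
    haveI := hTfin (cj j) j.unpair.2
    obtain ⟨m, hm, x', hx', hk⟩ :=
      exists_killed tr g tr' ρ π htr hid hsurj hρ hker hπ (cj j) (T (cj j) j.unpair.2) s.1 s.2
    obtain ⟨y, hy⟩ := hsurj m (m + j) (Nat.le_add_right m j) x'
    exact ⟨⟨m + j, y⟩, hm.trans (Nat.le_add_right m j),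
      by rw [← htr hm (Nat.le_add_right m j), hy, hx'], Nat.le_add_left j m,
      fun a ha hb => killed_mono tr tr' ρ π hρ hπ _ _ hy (hk a ha hb)⟩
  choose next hle htrn hjle hkill using hstep
  let st : ℕ → Σ n, Q n := fun j => Nat.rec (motive := fun _ => Σ n, Q n) ⟨0, 0⟩ (fun j s => next j s) j
  have hN : ∀ j, j ≤ (st (j + 1)).1 := fun j => hjle j (st j)
  let x : ∀ n, Q n := fun n => tr (hN n) (st (n + 1)).2
  have hst : ∀ (i j : ℕ), i ≤ j → ∃ h : (st i).1 ≤ (st j).1, tr h (st j).2 = (st i).2 := by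
    intro i j hij
    induction hij with
    | refl => exact ⟨le_rfl, hid _ _⟩
    | @step j _ ih =>
      obtain ⟨h, e⟩ := ih
      exact ⟨h.trans (hle j (st j)), by
        show tr (h.trans (hle j (st j))) (next j (st j)).2 = _
        rw [← htr h (hle j (st j)), htrn j (st j), e]⟩
  refine ⟨x, fun n => ?_, fun c f w hf => ?_⟩
  · obtain ⟨h, e⟩ := hst (n + 1) (n + 2) (Nat.le_succ _)
    show tr (Nat.le_succ n) (tr (hN (n + 1)) (st (n + 2)).2) = tr (hN n) (st (n + 1)).2
    rw [htr, ← e, htr]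
  · obtain ⟨i, rfl⟩ := henum c
    obtain ⟨j₀, hj₀⟩ := hTall (enum i) (f, w)
    obtain ⟨j, hj1, hj2⟩ : ∃ j, j.unpair.1 = i ∧ j.unpair.2 = j₀ :=
      ⟨Nat.pair i j₀, by simp, by simp⟩
    subst hj1
    refine ⟨(st (j + 1)).1, ?_⟩
    have hk := hkill j (st j) (f, w) (hj₀ _ hj2.ge) hf
    have hx : x (st (j + 1)).1 = (st (j + 1)).2 := by
      have key : ∀ n (hn' : n = (st (j + 1)).1),
          tr (hn'.ge.trans (hN n)) (st (n + 1)).2 = (st (j + 1)).2 := by
        intro n hn'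
        obtain ⟨h, e⟩ := hst (j + 1) (n + 1) (by rw [hn']; exact Nat.succ_le_succ (hjle j (st j)))
        exact e
      exact key _ rfl
    rw [hx]
    exact hk

end Groth.L06.TowerDiag.Loc
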