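import Groth.Agent.L06.TowerDiag.Affine
import Groth.Agent.L06.TowerDiag.Loc
import Groth.Agent.L29.DCoh.QRlim
import Groth.Agent.L04.KSh.Twist
import Groth.Prelude.Def_W4c2derhamsingLim

/-! A tower whose first derived limit has countably generated sections satisfies the
Mittag-Leffler condition on affine opens. -/

set_option autoImplicit false
set_option linter.style.haveILetI false
set_option backward.isDefEq.respectTransparency false
set_option backward.isDefEq.respectTransparency.types false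

universe u

open CategoryTheory CategoryTheory.Limits TopologicalSpace Opposite AlgebraicGeometry
open Groth.L18.Frame (rs ro rs_rs rs_smul rs_self)
open Groth.L10

noncomputable section

namespace Groth.L06.TowerDiag

variable {X : Scheme.{u}}

/-- Sections of a product. -/
theorem exists_section_pi (M : ℕ → X.Modules) (V : X.Opens) (y : ∀ n, Γ(M n, V)) :
    ∃ x : Γ(∏ᶜ M, V), ∀ n, (Pi.π M n).app V x = y n := by
  refine ⟨SiteCover.sec X.sheaf V _ (Pi.lift fun n => (SiteCover.sec X.sheaf V (M n)).symm (y n)),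
    fun n => ?_⟩
  have h := SiteCover.sec_comp (O := X.sheaf) V
    (Pi.lift fun n => (SiteCover.sec X.sheaf V (M n)).symm (y n)) (Pi.π M n)
  rw [Pi.lift_π, Equiv.apply_symm_apply] at h
  exact h.symm

theorem section_pi_ext (M : ℕ → X.Modules) (V : X.Opens) {x x' : Γ(∏ᶜ M, V)}
    (h : ∀ n, (Pi.π M n).app V x = (Pi.π M n).app V x') : x = x' := by
  refine (SiteCover.sec X.sheaf V _).symm.injective (Pi.hom_ext _ _ fun n => ?_)
  refine (SiteCover.sec X.sheaf V (M n)).injective ?_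
  rw [SiteCover.sec_comp, SiteCover.sec_comp, Equiv.apply_symm_apply, Equiv.apply_symm_apply]
  exact h n

theorem towerDiff_app (F : ℕᵒᵖ ⥤ X.Modules) (V : X.Opens) (x : Γ(∏ᶜ fun n : ℕ => F.obj (op n), V))
    (n : ℕ) :
    (Pi.π (fun n : ℕ => F.obj (op n)) n).app V ((LimSh.towerDiffSh F).app V x) =
      (Pi.π (fun n : ℕ => F.obj (op n)) n).app V x -
        (F.map (homOfLE (Nat.le_succ n)).op).app V
          ((Pi.π (fun n : ℕ => F.obj (op n)) (n + 1)).app V x) := by
  have e : LimSh.towerDiffSh F ≫ Pi.π (fun n : ℕ => F.obj (op n)) n =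
      Pi.π (fun n : ℕ => F.obj (op n)) n -
        Pi.π (fun n : ℕ => F.obj (op n)) (n + 1) ≫ F.map (homOfLE (Nat.le_succ n)).op :=
    Pi.lift_π _ n
  exact ConcreteCategory.congr_hom (congrArg (fun t => Scheme.Modules.Hom.app t V) e) x

/-- The cokernel is exact on germs. -/
theorem exists_local_preimage_cokernel {M N : X.Modules} (φ : M ⟶ N) {V : X.Opens} (a : Γ(N, V))
    (ha : (cokernel.π φ).app V a = 0) {z : X} (hz : z ∈ V) :
    ∃ (W : X.Opens) (h : W ≤ V) (t : Γ(M, W)), z ∈ W ∧ φ.app W t = rs N h a := by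
  let a' : Groth.L29.DC.QRlim.free X V ⟶ N := (SiteCover.sec X.sheaf V N).symm a
  have h0 : a' ≫ cokernel.π φ = 0 := by
    refine (SiteCover.sec X.sheaf V (cokernel φ)).injective ?_
    rw [SiteCover.sec_comp, Equiv.apply_symm_apply]
    refine ha.trans ?_
    rw [← comp_zero (f := a') (Z := cokernel φ), SiteCover.sec_comp, Functor.map_zero]
    rfl
  let b := SiteCover.sec X.sheaf V (Abelian.image φ) (kernel.lift _ a' h0)
  have hb : (Abelian.image.ι φ).app V b = a := by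
    have h := SiteCover.sec_comp (O := X.sheaf) V (kernel.lift _ a' h0) (Abelian.image.ι φ)
    rw [kernel.lift_ι, Equiv.apply_symm_apply] at h
    exact h.symm
  obtain ⟨W, hW, t, hzW, ht⟩ := Groth.L16.HomSh.exists_local_lift (Abelian.factorThruImage φ) b hz
  refine ⟨W, hW, t, hzW, ?_⟩
  rw [← hb, ← Groth.L16.HomSh.app_rs]
  exact (ConcreteCategory.congr_hom
    (congrArg (fun s => Scheme.Modules.Hom.app s W) (Abelian.image.fac φ)) t).symm.trans
      (congrArg ((Abelian.image.ι φ).app W) ht)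

/-- A section in the image away from a function comes from the image after multiplication. -/
theorem exists_pow_smul_mem_range {M N : X.Modules} [Coh.IsQCoh M] [Coh.IsQCoh N] (φ : M ⟶ N)
    {V : X.Opens} (hV : IsAffineOpen V) (f : Γ(X, V)) (D : X.Opens) (hD : D = X.basicOpen f)
    (hDV : D ≤ V) (a : Γ(N, V)) (u : Γ(M, D)) (h : rs N hDV a = φ.app D u) :
    ∃ j : ℕ, ∀ i, j ≤ i → ∃ u' : Γ(M, V), φ.app V u' = f ^ i • a := by
  subst hD
  obtain ⟨e, t, ht⟩ := Groth.L16.QcqsPush.exists_pow_smul_eq_res M hV.isCompact hV.isQuasiSeparated f u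
  have hz : rs N (X.basicOpen_le f) (f ^ e • a - φ.app V t) = 0 := by
    show (N.presheaf.map (homOfLE (X.basicOpen_le f)).op) (f ^ e • a - φ.app V t) = 0
    rw [map_sub]
    show rs N (X.basicOpen_le f) (f ^ e • a) - rs N (X.basicOpen_le f) (φ.app V t) = 0
    rw [rs_smul, ← Groth.L16.HomSh.app_rs, ht, Scheme.Modules.Hom.app_smul, ← h, sub_self]
  obtain ⟨j, hj⟩ := Groth.L16.QcqsPush.exists_pow_smul_eq_zero N hV.isCompact f _ hz
  refine ⟨j + e, fun i hi => ⟨f ^ (i - e) • t, ?_⟩⟩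
  obtain ⟨d, rfl⟩ := Nat.exists_eq_add_of_le hi
  rw [Scheme.Modules.Hom.app_smul]
  rw [smul_sub, sub_eq_zero] at hj
  rw [show j + e + d - e = d + j by omega, pow_add, mul_smul, ← hj, smul_smul, smul_smul,
    ← pow_add, ← pow_add]
  congr 2
  omega

/-- Countable generation passes to basic opens. -/
theorem countable_span_basicOpen {M : X.Modules} [Coh.IsQCoh M] {U : X.Opens} (hU : IsAffineOpen U)
    (g : Γ(X, U)) (s : Set Γ(M, U)) (hs : s.Countable) (hs' : Submodule.span Γ(X, U) s = ⊤) :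
    letI : Module Γ(X, U) Γ(M, X.basicOpen g) := Module.compHom _
      ((X.presheaf.map (homOfLE (X.basicOpen_le g)).op).hom)
    ∃ S : Set Γ(M, X.basicOpen g), S.Countable ∧ Submodule.span Γ(X, U) S = ⊤ := by
  letI : Module Γ(X, U) Γ(M, X.basicOpen g) := Module.compHom _
    ((X.presheaf.map (homOfLE (X.basicOpen_le g)).op).hom)
  obtain ⟨u, hu⟩ : IsUnit (ro (X.basicOpen_le g) g) := RingedSpace.isUnit_res_basicOpen _ _
  let L : ℕ → (Γ(M, U) →ₗ[Γ(X, U)] Γ(M, X.basicOpen g)) := fun e =>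
    { toFun := fun t => (↑(u⁻¹ ^ e) : Γ(X, X.basicOpen g)) • rs M (X.basicOpen_le g) t
      map_add' := fun a b => (congrArg (fun y : Γ(M, X.basicOpen g) => (↑(u⁻¹ ^ e) : Γ(X, X.basicOpen g)) • y)
        (map_add (M.presheaf.map (homOfLE (X.basicOpen_le g)).op).hom a b)).trans (smul_add _ _ _)
      map_smul' := fun r t => by
        show (↑(u⁻¹ ^ e) : Γ(X, X.basicOpen g)) • rs M (X.basicOpen_le g) (r • t) =
          ro (X.basicOpen_le g) r • ((↑(u⁻¹ ^ e) : Γ(X, X.basicOpen g)) • rs M (X.basicOpen_le g) t)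
        rw [rs_smul, smul_comm] }
  refine ⟨⋃ e, L e '' s, Set.countable_iUnion fun e => hs.image _, ?_⟩
  rw [eq_top_iff]
  intro y _
  obtain ⟨e, t, ht⟩ := Groth.L16.QcqsPush.exists_pow_smul_eq_res M hU.isCompact hU.isQuasiSeparated g y
  have hy : L e t = y := by
    show (↑(u⁻¹ ^ e) : Γ(X, X.basicOpen g)) • rs M (X.basicOpen_le g) t = y
    rw [ht]
    have : ro (X.basicOpen_le g) (g ^ e) = (↑(u ^ e) : Γ(X, X.basicOpen g)) := by
      show X.presheaf.map _ (g ^ e) = _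
      rw [map_pow, Units.val_pow_eq_pow_val, hu]
    rw [this, smul_smul, ← Units.val_mul, ← mul_pow, inv_mul_cancel, one_pow, Units.val_one, one_smul]
  rw [← hy]
  refine Submodule.span_mono (Set.subset_iUnion (fun e => L e '' s) e) ?_
  rw [← Submodule.map_span, hs']
  exact Submodule.mem_map_of_mem Submodule.mem_top

/-- The image of a transition map on sections. -/
abbrev rangeT (F : ℕᵒᵖ ⥤ X.Modules) {a b : ℕ} (h : a ≤ b) (V : X.Opens) :
    Submodule Γ(X, V) Γ(F.obj (op a), V) :=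
  LinearMap.range (appR (F.map (homOfLE h).op) V)

theorem rangeT_anti (F : ℕᵒᵖ ⥤ X.Modules) {a b c : ℕ} (h : a ≤ b) (h' : b ≤ c) (V : X.Opens) :
    rangeT F (h.trans h') V ≤ rangeT F h V := by
  rintro _ ⟨x, rfl⟩
  exact ⟨(F.map (homOfLE h').op).app V x, app_map_comp F V h h' x⟩

theorem rs_app_map (F : ℕᵒᵖ ⥤ X.Modules) {a b : ℕ} (h : a ≤ b) {V V' : X.Opens} (hV : V' ≤ V)
    (x : Γ(F.obj (op b), V)) :
    rs (F.obj (op a)) hV ((F.map (homOfLE h).op).app V x) =
      (F.map (homOfLE h).op).app V' (rs (F.obj (op b)) hV x) :=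
  (Groth.L16.HomSh.app_rs (F.map (homOfLE h).op) hV x).symm

theorem stable_range (k : Type u) [Field k] [X.Over (Spec (CommRingCat.of k))]
    [LocallyOfFiniteType (X ↘ Spec (CommRingCat.of k))]
    (F : ℕᵒᵖ ⥤ X.Modules) (hF : ∀ n : ℕ, Coh.IsQCoh (F.obj (op n)))
    {U : X.Opens} (hU : IsAffineOpen U)
    (hFc : ∀ n : ℕ, ∃ s : Set Γ(F.obj (op n), U), s.Countable ∧ Submodule.span Γ(X, U) s = ⊤)
    (hc : ∃ s : Set Γ(LimSh.limOneSh F, U), s.Countable ∧ Submodule.span Γ(X, U) s = ⊤) (n₀ : ℕ) :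
    ∃ (m : ℕ) (hm : n₀ ≤ m), ∀ (m' : ℕ) (hm' : m ≤ m'),
      rangeT F hm U ≤ rangeT F (hm.trans hm') U := by
  classical
  haveI := hF
  let sc : k →+* Γ(X, U) := Groth.L16.AffineBC.scal k X U
  letI : Algebra k Γ(X, U) := sc.toAlgebra
  haveI : Algebra.FiniteType k Γ(X, U) := by
    have hft := (X ↘ Spec (CommRingCat.of k)).finiteType_appLE
      (isAffineOpen_top (Spec (CommRingCat.of k))) hU le_top
    have hiso : Function.Surjective (Scheme.ΓSpecIso (CommRingCat.of k)).inv.hom :=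
      (ConcreteCategory.bijective_of_isIso (Scheme.ΓSpecIso (CommRingCat.of k)).inv).2
    exact hft.comp (RingHom.FiniteType.of_surjective _ hiso)
  -- countably many generators of the sections of the derived limit, with local lifts
  let P := fun n : ℕ => F.obj (op n)
  let q : (∏ᶜ P) ⟶ LimSh.limOneSh F := cokernel.π (LimSh.towerDiffSh F)
  obtain ⟨S₁, hS₁, hS₁'⟩ := hc
  obtain ⟨w, hw⟩ := (hS₁.insert 0).exists_eq_range ⟨0, Set.mem_insert _ _⟩
  have hcov : ∀ i : ℕ, ∃ (N : ℕ) (f : Fin N → Γ(X, U)) (l : ∀ a, Γ(∏ᶜ P, X.basicOpen (f a))),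
      (∀ z ∈ U, ∃ a, z ∈ X.basicOpen (f a)) ∧
        ∀ a, q.app _ (l a) = rs (LimSh.limOneSh F) (X.basicOpen_le (f a)) (w i) := by
    intro i
    have hloc : ∀ z : U, ∃ f : Γ(X, U), z.1 ∈ X.basicOpen f ∧ ∃ l : Γ(∏ᶜ P, X.basicOpen f),
        q.app _ l = rs (LimSh.limOneSh F) (X.basicOpen_le f) (w i) := by
      rintro ⟨z, hz⟩
      obtain ⟨W, hW, t, hzW, ht⟩ := Groth.L16.HomSh.exists_local_lift q (w i) hz
      obtain ⟨f, hfW, hzf⟩ := hU.exists_basicOpen_le (V := W) ⟨z, hzW⟩ hz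
      refine ⟨f, hzf, rs _ hfW t, ?_⟩
      rw [Groth.L16.HomSh.app_rs, ht, rs_rs]
    choose f hzf l hl using hloc
    obtain ⟨T, hT⟩ := hU.isCompact.elim_finite_subcover (fun z : U => (X.basicOpen (f z) : Set X))
      (fun z => (X.basicOpen (f z)).2) (fun z hz => Set.mem_iUnion.2 ⟨⟨z, hz⟩, hzf _⟩)
    refine ⟨T.card, fun a => f (T.equivFin.symm a), fun a => l (T.equivFin.symm a), fun z hz => ?_,
      fun a => hl _⟩
    obtain ⟨z', hz', hz''⟩ := Set.mem_iUnion₂.1 (hT hz)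
    exact ⟨T.equivFin ⟨z', hz'⟩, by simp only [Equiv.symm_apply_apply]; exact hz''⟩
  choose N f l hfcov hl using hcov
  let C : Type := Σ s : ℕ, ((i : Fin s) → Fin (N i))
  haveI : Nonempty C := ⟨⟨0, fun i => i.elim0⟩⟩
  let g : C → Γ(X, U) := fun c => ∏ i : Fin c.1, f i (c.2 i)
  let D : C → X.Opens := fun c => X.basicOpen (g c)
  have hgle : ∀ (c : C) (i : Fin c.1), D c ≤ X.basicOpen (f i (c.2 i)) := by
    intro c i
    show X.basicOpen (g c) ≤ _
    rw [show g c = f i (c.2 i) * ∏ j ∈ Finset.univ.erase i, f j (c.2 j) from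
      (Finset.mul_prod_erase Finset.univ (fun j : Fin c.1 => f j (c.2 j)) (Finset.mem_univ i)).symm,
      X.basicOpen_mul]
    exact inf_le_left
  -- charts
  letI : ∀ c, Algebra Γ(X, U) Γ(X, D c) := fun c =>
    (X.presheaf.map (homOfLE (X.basicOpen_le (g c))).op).hom.toAlgebra
  letI : ∀ c, Module Γ(X, U) Γ(F.obj (op n₀), D c) := fun c =>
    Module.compHom _ (X.presheaf.map (homOfLE (X.basicOpen_le (g c))).op).hom
  haveI : ∀ c, IsScalarTower Γ(X, U) Γ(X, D c) Γ(F.obj (op n₀), D c) := fun c =>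
    IsScalarTower.of_algebraMap_smul fun _ _ => rfl
  let J : ∀ (c : C) (m : ℕ), Submodule Γ(X, U) Γ(F.obj (op n₀), D c) := fun c m =>
    (rangeT F (Nat.le_add_right n₀ m) (D c)).restrictScalars Γ(X, U)
  let Jt : ∀ m : ℕ, Submodule Γ(X, U) Γ(F.obj (op n₀), U) := fun m => rangeT F (Nat.le_add_right n₀ m) U
  have hJt : ∀ {a b : ℕ}, a ≤ b → Jt b ≤ Jt a := fun {a b} h =>
    rangeT_anti F (Nat.le_add_right n₀ a) (Nat.add_le_add_left h n₀) U
  have hJ : ∀ (c : C) {a b : ℕ}, a ≤ b → J c b ≤ J c a := fun c {a b} h =>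
    rangeT_anti F (Nat.le_add_right n₀ a) (Nat.add_le_add_left h n₀) (D c)
  let tr : ∀ {a b : ℕ}, a ≤ b →
      ((Γ(F.obj (op n₀), U) ⧸ Jt b) →ₗ[Γ(X, U)] (Γ(F.obj (op n₀), U) ⧸ Jt a)) := fun h =>
    Submodule.factor (hJt h)
  let tr' : ∀ (c : C) {a b : ℕ}, a ≤ b →
      ((Γ(F.obj (op n₀), D c) ⧸ J c b) →ₗ[Γ(X, U)] (Γ(F.obj (op n₀), D c) ⧸ J c a)) := fun c _ _ h =>
    Submodule.factor (hJ c h)
  let res : ∀ c, Γ(F.obj (op n₀), U) →ₗ[Γ(X, U)] Γ(F.obj (op n₀), D c) := fun c =>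
    { toFun := fun x => rs _ (X.basicOpen_le (g c)) x
      map_add' := map_add ((F.obj (op n₀)).presheaf.map (homOfLE (X.basicOpen_le (g c))).op).hom
      map_smul' := fun r x => rs_smul _ _ r x }
  let ρ : ∀ (c : C) (m : ℕ), (Γ(F.obj (op n₀), U) ⧸ Jt m) →ₗ[Γ(X, U)] (Γ(F.obj (op n₀), D c) ⧸ J c m) :=
    fun c m => Submodule.mapQ _ _ (res c) (by
      rintro _ ⟨x, rfl⟩
      exact ⟨rs _ (X.basicOpen_le (g c)) x, (rs_app_map F _ _ x).symm⟩)
  -- the local classes
  let L : ∀ (c : C) (i : Fin c.1) (j : ℕ), Γ(F.obj (op j), D c) := fun c i j =>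
    (Pi.π P j).app (D c) (rs _ (hgle c i) (l i (c.2 i)))
  let σ : ∀ (c : C) (i : Fin c.1) (m : ℕ), Γ(F.obj (op n₀), D c) := fun c i m =>
    ∑ j ∈ Finset.range m, (F.map (homOfLE (Nat.le_add_right n₀ j)).op).app (D c) (L c i (n₀ + j))
  have hσ : ∀ (c : C) (i : Fin c.1) {a b : ℕ}, a ≤ b → σ c i b - σ c i a ∈ J c a := by
    intro c i a b hab
    show σ c i b - σ c i a ∈ J c a
    rw [show σ c i b - σ c i a = _ from (Finset.sum_Ico_eq_sub
      (fun j => (F.map (homOfLE (Nat.le_add_right n₀ j)).op).app (D c) (L c i (n₀ + j))) hab).symm]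
    exact Submodule.sum_mem _ fun j hj => rangeT_anti F (Nat.le_add_right n₀ a)
      (Nat.add_le_add_left (Finset.mem_Ico.mp hj).1 n₀) (D c) ⟨L c i (n₀ + j), rfl⟩
  let π : ∀ (c : C) (m : ℕ), (Γ(F.obj (op n₀), D c) × (Fin c.1 → Γ(X, U))) →ₗ[Γ(X, U)]
      (Γ(F.obj (op n₀), D c) ⧸ J c m) := fun c m => (J c m).mkQ ∘ₗ
    (LinearMap.fst _ _ _ - (∑ i, (LinearMap.toSpanSingleton Γ(X, U) _ (σ c i m)) ∘ₗ LinearMap.proj i) ∘ₗ
      LinearMap.snd _ _ _)
  have hπval : ∀ (c : C) (m : ℕ) (s : Γ(F.obj (op n₀), D c)) (r : Fin c.1 → Γ(X, U)),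
      π c m (s, r) = Submodule.Quotient.mk (s - ∑ i, r i • σ c i m) := by
    intro c m s r
    simp [π]
  letI : ∀ c, Module k Γ(F.obj (op n₀), D c) := fun c => Module.compHom _ sc
  haveI : ∀ c, IsScalarTower k Γ(X, U) Γ(F.obj (op n₀), D c) := fun c =>
    IsScalarTower.of_algebraMap_smul fun _ _ => rfl
  -- countable spanning sets
  obtain ⟨s₀, hs₀, hs₀'⟩ := hFc n₀
  letI : Module k Γ(F.obj (op n₀), U) := Module.compHom _ sc
  haveI : IsScalarTower k Γ(X, U) Γ(F.obj (op n₀), U) := IsScalarTower.of_algebraMap_smul fun _ _ => rfl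
  obtain ⟨SR, hSR, hSR', -⟩ := countable_span (k := k) s₀ hs₀ hs₀'
  have hW : ∀ c : C, ∃ SW : Set (Γ(F.obj (op n₀), D c) × (Fin c.1 → Γ(X, U))),
      SW.Countable ∧ Submodule.span k SW = ⊤ := by
    intro c
    obtain ⟨S, hS, hS'⟩ := countable_span_basicOpen hU (g c) s₀ hs₀ hs₀'
    let S' : Set (Γ(F.obj (op n₀), D c) × (Fin c.1 → Γ(X, U))) :=
      LinearMap.inl Γ(X, U) _ _ '' S ∪ LinearMap.inr Γ(X, U) _ _ '' Set.range fun i => Pi.single i 1
    have hspan : Submodule.span Γ(X, U) S' = ⊤ := by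
      rw [Submodule.span_union, Submodule.span_image, Submodule.span_image, hS', Submodule.map_top,
        show Submodule.span Γ(X, U) (Set.range fun i : Fin c.1 => (Pi.single i 1 : Fin c.1 → Γ(X, U))) = ⊤ by
          rw [← (Pi.basisFun Γ(X, U) (Fin c.1)).span_eq]
          congr 2
          funext i
          simp,
        Submodule.map_top]
      exact LinearMap.sup_range_inl_inr
    obtain ⟨-, -, -, SM, hSM, hSM'⟩ := countable_span (k := k) S'
      ((hS.image _).union ((Set.countable_range _).image _)) hspan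
    exact ⟨SM, hSM, hSM'⟩
  choose SW hSW hSW' using hW
  obtain ⟨x, hx, hkill⟩ := Loc.exists_family (k := k)
    (Q := fun m => Γ(F.obj (op n₀), U) ⧸ Jt m) tr g (Q' := fun c m => Γ(F.obj (op n₀), D c) ⧸ J c m)
    tr' ρ π (fun _ _ y => by obtain ⟨y, rfl⟩ := Submodule.Quotient.mk_surjective _ y; rfl)
    (fun _ y => by obtain ⟨y, rfl⟩ := Submodule.Quotient.mk_surjective _ y; rfl)
    (fun _ _ _ y => by
      obtain ⟨y, rfl⟩ := Submodule.Quotient.mk_surjective _ y
      exact ⟨Submodule.Quotient.mk y, rfl⟩)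
    (fun c _ _ _ y => by obtain ⟨y, rfl⟩ := Submodule.Quotient.mk_surjective _ y; rfl)
    (fun c m y hy => by
      obtain ⟨y, rfl⟩ := Submodule.Quotient.mk_surjective _ y
      obtain ⟨u, hu⟩ := (Submodule.Quotient.mk_eq_zero _).mp hy
      obtain ⟨j, hj⟩ := exists_pow_smul_mem_range _ hU (g c) (D c) rfl (X.basicOpen_le _) y u hu.symm
      obtain ⟨u', hu'⟩ := hj j le_rfl
      exact ⟨j, (Submodule.Quotient.mk_eq_zero _).mpr ⟨u', hu'⟩⟩)
    (fun c a b h v => by
      obtain ⟨s, r⟩ := v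
      rw [hπval, hπval]
      refine (Submodule.Quotient.eq _).mpr ?_
      show (s - ∑ i, r i • σ c i b) - (s - ∑ i, r i • σ c i a) ∈ J c a
      have : s - ∑ i, r i • σ c i b - (s - ∑ i, r i • σ c i a) =
          -∑ i, r i • (σ c i b - σ c i a) := by
        simp only [smul_sub, Finset.sum_sub_distrib]; abel
      rw [this]
      exact neg_mem (Submodule.sum_mem _ fun i _ => Submodule.smul_mem _ _ (hσ c i h)))
    SR hSR hSR' SW hSW hSW'
  -- lifts of the family and its class in the derived limit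
  choose xt hxt using fun m => Submodule.Quotient.mk_surjective _ (x m)
  have hE : ∀ j : ℕ, ∃ e : Γ(F.obj (op j), U), ∀ m (hm : n₀ + m = j),
      xt m - xt (m + 1) = (F.map (homOfLE (hm ▸ Nat.le_add_right n₀ m)).op).app U e := by
    intro j
    by_cases hj : n₀ ≤ j
    · obtain ⟨m, rfl⟩ := Nat.exists_eq_add_of_le hj
      obtain ⟨e, he⟩ : xt m - xt (m + 1) ∈ Jt m := by
        rw [← Submodule.Quotient.eq, hxt, ← hx m, ← hxt (m + 1)]
        rfl
      refine ⟨e, fun m' hm' => ?_⟩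
      obtain rfl : m' = m := by omega
      exact he.symm
    · exact ⟨0, fun m hm => absurd (hm ▸ Nat.le_add_right n₀ m) hj⟩
  choose e he using hE
  obtain ⟨E, hEval⟩ := exists_section_pi P U e
  have hcomb : q.app U E ∈ Submodule.span Γ(X, U) (Set.range w) :=
    Submodule.span_mono (hw ▸ Set.subset_insert _ _) (hS₁' ▸ Submodule.mem_top)
  rw [Finsupp.mem_span_range_iff_exists_finsupp] at hcomb
  obtain ⟨d, hd⟩ := hcomb
  obtain ⟨b, hb⟩ := d.support.bddAbove
  have hsum : (∑ i : Fin (b + 1), d i • w i) = q.app U E := by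
    rw [Fin.sum_univ_eq_sum_range (fun i => d i • w i), ← hd, Finsupp.sum]
    symm
    refine Finset.sum_subset (fun i hi => Finset.mem_range.mpr (Nat.lt_succ_of_le (hb hi)))
      fun i _ hi => ?_
    rw [Finsupp.notMem_support_iff.mp hi, zero_smul]
  -- every point has a neighbourhood where the tower is eventually constant
  have hgood : ∀ z ∈ U, ∃ f₁ : Γ(X, U), z ∈ X.basicOpen f₁ ∧ ¬ Loc.Bad tr f₁ := by
    intro z hz
    choose a ha using fun i : Fin (b + 1) => hfcov i z hz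
    let c : C := ⟨b + 1, a⟩
    have hzD : z ∈ D c := by
      have hprod : ∀ T : Finset (Fin (b + 1)), z ∈ X.basicOpen (∏ i ∈ T, f i (a i)) := by
        intro T
        induction T using Finset.induction_on with
        | empty => rw [Finset.prod_empty, X.basicOpen_one]; exact hz
        | insert i T hi ih => rw [Finset.prod_insert hi, X.basicOpen_mul]; exact ⟨ha i, ih⟩
      exact hprod _
    let qc := appR q (D c)
    let El : Γ(∏ᶜ P, D c) := rs _ (X.basicOpen_le (g c)) E -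
      ∑ i : Fin (b + 1), ro (X.basicOpen_le (g c)) (d i) • rs _ (hgle c i) (l i (a i))
    have hq0 : q.app (D c) El = 0 := by
      show qc El = 0
      rw [map_sub, map_sum]
      have e2 : qc (rs _ (X.basicOpen_le (g c)) E) =
          ∑ i : Fin (b + 1), ro (X.basicOpen_le (g c)) (d i) • rs _ (X.basicOpen_le (g c)) (w i) := by
        show q.app (D c) _ = _
        rw [Groth.L16.HomSh.app_rs, ← hsum]
        refine (map_sum ((LimSh.limOneSh F).presheaf.map _).hom _ _).trans ?_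
        exact Finset.sum_congr rfl fun i _ => rs_smul _ _ _ _
      rw [e2, sub_eq_zero]
      refine Finset.sum_congr rfl fun i _ => ?_
      rw [map_smul]
      show _ = _ • q.app (D c) (rs _ (hgle c i) (l i (a i)))
      rw [Groth.L16.HomSh.app_rs, hl, rs_rs]
    obtain ⟨W, hWD, t, hzW, ht⟩ := exists_local_preimage_cokernel (LimSh.towerDiffSh F) El hq0 hzD
    obtain ⟨h₀, hh₀W, hzh⟩ := hU.exists_basicOpen_le (V := W) ⟨z, hzW⟩ hz
    refine ⟨g c * h₀, by rw [X.basicOpen_mul]; exact ⟨hzD, hzh⟩, fun hbad => ?_⟩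
    let V := X.basicOpen h₀
    have hVD : V ≤ D c := hh₀W.trans hWD
    have hVU : V ≤ U := X.basicOpen_le h₀
    let Z : ∀ j, Γ(F.obj (op j), V) := fun j => (Pi.π P j).app V (rs _ hh₀W t)
    let Φ : ∀ m, Γ(F.obj (op (n₀ + m)), V) →ₗ[Γ(X, V)] Γ(F.obj (op n₀), V) := fun m =>
      appR (F.map (homOfLE (Nat.le_add_right n₀ m)).op) V
    let A : ℕ → Γ(F.obj (op n₀), V) := fun m => rs _ hVU (xt m) +
      (∑ i : Fin (b + 1), ro hVU (d i) • rs _ hVD (σ c i m)) - Φ m (Z (n₀ + m))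
    have hstep : ∀ m, A (m + 1) = A m := by
      intro m
      have h1 : Z (n₀ + m) - (F.map (homOfLE (Nat.le_succ (n₀ + m))).op).app V (Z (n₀ + m + 1)) =
          rs _ hVU (e (n₀ + m)) - ∑ i : Fin (b + 1), ro hVU (d i) • rs _ hVD (L c i (n₀ + m)) := by
        have h2 := congrArg (fun s => (Pi.π P (n₀ + m)).app V (rs _ hh₀W s)) ht
        simp only [rs_rs] at h2
        rw [← Groth.L16.HomSh.app_rs, towerDiff_app] at h2
        refine h2.trans ?_
        show appR (Pi.π P (n₀ + m)) V (rs (∏ᶜ P) hh₀W (rs (∏ᶜ P) hWD El)) = _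
        rw [rs_rs]
        rw [show rs (∏ᶜ P) hVD El = rs _ hVU E - ∑ i : Fin (b + 1),
            ro hVU (d i) • rs _ (hVD.trans (hgle c i)) (l i (a i)) by
          show ((∏ᶜ P).presheaf.map (homOfLE hVD).op).hom _ = _
          rw [map_sub, map_sum]
          congr 1
          · exact rs_rs _ _ _ _
          · refine Finset.sum_congr rfl fun i _ => (rs_smul _ _ _ _).trans ?_
            rw [Groth.L18.Frame.ro_ro, rs_rs]]
        rw [map_sub, map_sum]
        congr 1
        · show (Pi.π P (n₀ + m)).app V (rs _ hVU E) = _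
          rw [Groth.L16.HomSh.app_rs, hEval]
        · refine Finset.sum_congr rfl fun i _ => ?_
          rw [map_smul]
          show _ • (Pi.π P (n₀ + m)).app V _ = _
          rw [← Groth.L16.HomSh.app_rs (Pi.π P (n₀ + m)) hVD, rs_rs]
      have h3 := congrArg (Φ m) h1
      rw [map_sub, map_sub, map_sum] at h3
      have h4 : Φ m ((F.map (homOfLE (Nat.le_succ (n₀ + m))).op).app V (Z (n₀ + m + 1))) =
          Φ (m + 1) (Z (n₀ + (m + 1))) := app_map_comp F V _ _ _
      have h5 : Φ m (rs _ hVU (e (n₀ + m))) = rs _ hVU (xt m) - rs _ hVU (xt (m + 1)) := by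
        show (F.map _).app V _ = _
        rw [← rs_app_map, ← he (n₀ + m) m rfl]
        exact map_sub ((F.obj (op n₀)).presheaf.map (homOfLE hVU).op).hom _ _
      have h6 : ∀ i : Fin (b + 1), Φ m (ro hVU (d i) • rs _ hVD (L c i (n₀ + m))) =
          ro hVU (d i) • rs _ hVD (σ c i (m + 1)) - ro hVU (d i) • rs _ hVD (σ c i m) := fun i => by
        rw [map_smul, ← smul_sub]
        congr 1
        show (F.map _).app V _ = _
        rw [← rs_app_map]
        refine Eq.trans (congrArg (rs _ hVD) ?_)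
          (map_sub ((F.obj (op n₀)).presheaf.map (homOfLE hVD).op).hom (σ c i (m + 1)) (σ c i m))
        simp [σ, Finset.sum_range_succ]
      rw [h4, h5, Finset.sum_congr rfl fun i _ => h6 i, Finset.sum_sub_distrib] at h3
      show rs _ hVU (xt (m + 1)) + _ - Φ (m + 1) _ = rs _ hVU (xt m) + _ - Φ m _
      linear_combination (norm := module) h3
    have hconst : ∀ m, A m = A 0 := fun m => by
      induction m with
      | zero => rfl
      | succ m ih => rw [hstep, ih]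
    obtain ⟨p, s', hs'⟩ := Groth.L16.QcqsPush.exists_pow_smul_eq_res (F.obj (op n₀)) hU.isCompact
      hU.isQuasiSeparated h₀ (A 0)
    obtain ⟨n, hn⟩ := hkill c (h₀ ^ (p + 1))
      (res c (h₀ • s'), fun i => h₀ ^ (p + 1) * d i)
      (fun N => by
        obtain ⟨n, hn, v, hv, hvm⟩ := hbad N
        refine ⟨n, hn, v, hv, fun j hj => hvm ((p + 1) * j) ?_⟩
        have e' : (g c * h₀) ^ ((p + 1) * j) =
            g c ^ ((p + 1) * j - j) * (g c * h₀ ^ (p + 1)) ^ j := by
          rw [mul_pow, mul_pow, ← pow_mul, ← mul_assoc, ← pow_add,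
            Nat.sub_add_cancel (Nat.le_mul_of_pos_left j p.succ_pos)]
        rw [e', mul_smul, hj, smul_zero])
    let a₁ : Γ(F.obj (op n₀), D c) := h₀ ^ (p + 1) • res c (xt n) -
      (res c (h₀ • s') - ∑ i : Fin (b + 1), (h₀ ^ (p + 1) * d i) • σ c i n)
    have ha₁ : rs _ hVD a₁ = Φ n (ro hVU (h₀ ^ (p + 1)) • Z (n₀ + n)) := by
      let rV := ((F.obj (op n₀)).presheaf.map (homOfLE hVD).op).hom
      have hrV : ∀ (r : Γ(X, U)) (y : Γ(F.obj (op n₀), D c)),
          rV (r • y) = ro hVU r • rs _ hVD y := fun r y => by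
        show rs _ hVD (ro (X.basicOpen_le (g c)) r • y) = _
        rw [rs_smul, Groth.L18.Frame.ro_ro]
      have hres : ∀ y, rV (res c y) = rs _ hVU y := fun y => rs_rs _ _ _ y
      show rV a₁ = _
      rw [map_sub, map_sub, map_sum, hrV, hres]
      simp only [hrV]
      rw [map_smul, show rs _ hVD (res c (xt n)) = rs _ hVU (xt n) from hres _]
      have h7 : rs _ hVU (h₀ • s') = ro hVU (h₀ ^ (p + 1)) • A n := by
        rw [rs_smul, hs', hconst n, smul_smul, pow_succ']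
        show _ = X.presheaf.map _ (h₀ * h₀ ^ p) • _
        rw [map_mul]
      simp only [map_mul, mul_smul, ← Finset.smul_sum]
      rw [h7]
      show _ = _ • Φ n (Z (n₀ + n))
      simp only [A, smul_sub, smul_add]
      abel
    obtain ⟨j, hj⟩ := exists_pow_smul_mem_range (F.map (homOfLE (Nat.le_add_right n₀ n)).op)
      (hU.basicOpen (g c)) (ro (X.basicOpen_le (g c)) h₀) V
      (by rw [Scheme.basicOpen_res]; exact (inf_eq_right.mpr hVD).symm) hVD a₁ _ ha₁
    refine hn j ?_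
    obtain ⟨u', hu'⟩ := hj ((p + 1) * j) (Nat.le_mul_of_pos_left j p.succ_pos)
    rw [hπval, ← hxt n]
    refine (Submodule.Quotient.mk_eq_zero _).mpr ⟨u', hu'.trans ?_⟩
    show (ro (X.basicOpen_le (g c)) h₀) ^ ((p + 1) * j) • a₁ =
      ro (X.basicOpen_le (g c)) ((h₀ ^ (p + 1)) ^ j) • a₁
    rw [← pow_mul]
    show _ = X.presheaf.map _ (h₀ ^ _) • a₁
    rw [map_pow]
  choose f₁ hzf hnb using hgood
  unfold Loc.Bad at hnb
  push Not at hnb
  choose N₁ hN₁ using hnb
  obtain ⟨T, hT⟩ := hU.isCompact.elim_finite_subcover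
    (fun z : U => (X.basicOpen (f₁ z.1 z.2) : Set X)) (fun z => (X.basicOpen (f₁ z.1 z.2)).2)
    (fun z hz => Set.mem_iUnion.2 ⟨⟨z, hz⟩, hzf z hz⟩)
  have hspan : Ideal.span ((fun z : U => f₁ z.1 z.2) '' ↑T) = ⊤ := by
    refine (hU.self_le_iSup_basicOpen_iff (s := (fun z : U => f₁ z.1 z.2) '' ↑T)).mp fun z hz => ?_
    obtain ⟨z', hz', hz''⟩ := Set.mem_iUnion₂.1 (hT hz)
    exact Opens.mem_iSup.2 ⟨⟨_, z', hz', rfl⟩, hz''⟩
  let M₀ := T.sup fun z => N₁ z.1 z.2
  have hinj : ∀ n, M₀ ≤ n → Jt n ≤ Jt (n + 1) := by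
    intro n hn y hy
    rw [← Submodule.Quotient.mk_eq_zero]
    let v : Γ(F.obj (op n₀), U) ⧸ Jt (n + 1) := Submodule.Quotient.mk y
    have hv : tr (Nat.le_succ n) v = 0 := (Submodule.Quotient.mk_eq_zero _).mpr hy
    let I : Ideal Γ(X, U) := LinearMap.ker (LinearMap.toSpanSingleton Γ(X, U) _ v)
    have htop : I.radical = ⊤ := by
      rw [eq_top_iff, ← hspan, Ideal.span_le]
      rintro _ ⟨z, hz, rfl⟩
      obtain ⟨m, hm⟩ := hN₁ z.1 z.2 n ((Finset.le_sup (f := fun z : U => N₁ z.1 z.2) hz).trans hn) v hv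
      exact ⟨m, by rw [LinearMap.mem_ker, LinearMap.toSpanSingleton_apply, hm]⟩
    rw [Ideal.radical_eq_top] at htop
    have h1 : (1 : Γ(X, U)) ∈ I := htop ▸ Submodule.mem_top
    rw [LinearMap.mem_ker, LinearMap.toSpanSingleton_apply, one_smul] at h1
    exact h1
  refine ⟨n₀ + M₀, Nat.le_add_right _ _, fun m' hm' => ?_⟩
  obtain ⟨d', rfl⟩ := Nat.exists_eq_add_of_le hm'
  show Jt M₀ ≤ _
  have : Jt M₀ ≤ Jt (M₀ + d') := by
    induction d' with
    | zero => exact le_rfl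
    | succ d' ih => exact (ih (Nat.le_add_right _ _)).trans (hinj _ (Nat.le_add_right _ _))
  intro y hy
  obtain ⟨u, hu⟩ := this hy
  have key : ∀ (a : ℕ) (ha : a = n₀ + (M₀ + d')) (h : n₀ ≤ a), y ∈ rangeT F h U := by
    rintro a rfl h
    exact ⟨u, hu⟩
  exact key _ (by omega) _

end Groth.L06.TowerDiag
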