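import Groth.Agent.L06.TowerDiag.Main
import Groth.Agent.L29.DCoh.QCohOps
import Groth.Agent.L14.Quot.Lift

/-! A limit of quasi-coherent modules receiving an epimorphism from a countably generated one. -/

set_option autoImplicit false
set_option linter.style.haveILetI false
set_option backward.isDefEq.respectTransparency false
set_option backward.isDefEq.respectTransparency.types false

universe u

open CategoryTheory CategoryTheory.Limits TopologicalSpace Opposite AlgebraicGeometry

namespace Groth.L06.TowerDiag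

/-- The tower of images of a cone. -/
theorem exists_image_tower {C : Type*} [Category C] [Abelian C] {J : Type*} [Category J] (F : J ⥤ C)
    (G : C) (g : ∀ n, G ⟶ F.obj n) (hgw : ∀ {a b : J} (h : a ⟶ b), g a ≫ F.map h = g b) :
    ∃ (Q : J ⥤ C) (ι : Q ⟶ F) (π : (Functor.const J).obj G ⟶ Q),
      (∀ n, Mono (ι.app n)) ∧ (∀ n, Epi (π.app n)) ∧ (∀ n, π.app n ≫ ι.app n = g n) ∧
      ∀ n, Q.obj n = kernel (cokernel.π (g n)) := by
  have hq : ∀ {a b : J} (h : a ⟶ b),
      (Abelian.image.ι (g a) ≫ F.map h) ≫ cokernel.π (g b) = 0 := fun h => by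
    rw [← cancel_epi (Abelian.factorThruImage (g _)), ← Category.assoc, ← Category.assoc,
      Abelian.image.fac, hgw, cokernel.condition, comp_zero]
  let Q : J ⥤ C :=
    { obj := fun n => Abelian.image (g n)
      map := fun {a b} h => kernel.lift (cokernel.π (g b)) (Abelian.image.ι (g a) ≫ F.map h) (hq h)
      map_id := fun a => by
        rw [← cancel_mono (Abelian.image.ι (g a)), kernel.lift_ι, F.map_id, Category.comp_id,
          Category.id_comp]
      map_comp := fun {a b c} h h' => by
        rw [← cancel_mono (Abelian.image.ι (g c)), kernel.lift_ι, Category.assoc, kernel.lift_ι,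
          kernel.lift_ι_assoc, F.map_comp, Category.assoc] }
  refine ⟨Q, { app := fun n => Abelian.image.ι (g n), naturality := fun a b h => kernel.lift_ι _ _ _ },
    { app := fun n => Abelian.factorThruImage (g n), naturality := fun a b h => ?_ },
    fun n => (inferInstance : Mono (Abelian.image.ι (g n))),
    fun n => (inferInstance : Epi (Abelian.factorThruImage (g n))),
    fun n => Abelian.image.fac _, fun n => rfl⟩
  show 𝟙 G ≫ Abelian.factorThruImage (g b) = Abelian.factorThruImage (g a) ≫
    kernel.lift (cokernel.π (g b)) (Abelian.image.ι (g a) ≫ F.map h) (hq h)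
  rw [Category.id_comp, ← cancel_mono (Abelian.image.ι (g b)), Category.assoc, Abelian.image.fac]
  erw [kernel.lift_ι]
  rw [← Category.assoc, Abelian.image.fac, hgw]

theorem limit_spec_of_epi (k : Type u) [Field k] {X : Scheme.{u}} [X.Over (Spec (CommRingCat.of k))]
    [LocallyOfFiniteType (X ↘ Spec (CommRingCat.of k))] [CompactSpace X]
    (F : ℕᵒᵖ ⥤ X.Modules) (hF : ∀ n : ℕ, Coh.IsQCoh (F.obj (op n)))
    (G : X.Modules) (hG : Coh.IsQCoh G)
    (hGc : ∀ U : X.Opens, IsAffineOpen U → ∃ s : Set Γ(G, U),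
      s.Countable ∧ Submodule.span Γ(X, U) s = ⊤)
    (φ : G ⟶ limit F) [Epi φ] :
    Coh.IsQCoh (limit F) ∧
      (∀ U : X.Opens, IsAffineOpen U → ∃ s : Set Γ(limit F, U),
        s.Countable ∧ Submodule.span Γ(X, U) s = ⊤) ∧
      (Coh.IsCoh G → Coh.IsCoh (limit F)) := by
  let g : ∀ n : ℕᵒᵖ, G ⟶ F.obj n := fun n => φ ≫ limit.π F n
  have hgw : ∀ {a b : ℕᵒᵖ} (h : a ⟶ b), g a ≫ F.map h = g b := fun h => by
    simp only [g, Category.assoc, limit.w]
  obtain ⟨Q, ι, π, hι, hπ, hπι, hobj⟩ := exists_image_tower F G g (fun h => hgw h)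
  let c : Cone Q := ⟨G, π⟩
  have hepi : ∀ n : ℕ, Epi (c.π.app (op n)) := fun n => hπ _
  have hfac : limit.lift Q c ≫ limMap ι = φ := limit.hom_ext fun n => by
    rw [Category.assoc, limMap_π, ← Category.assoc, limit.lift_π]
    exact hπι n
  haveI : ∀ n, Mono (ι.app n) := hι
  haveI : Mono (limMap ι) := ⟨fun a b h => limit.hom_ext fun n => by
    rw [← cancel_mono (ι.app n), Category.assoc, Category.assoc, ← limMap_π, ← Category.assoc,
      ← Category.assoc, h]⟩
  haveI : Epi (limMap ι) := epi_of_epi_fac hfac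
  haveI : IsIso (limMap ι) := isIso_of_mono_of_epi _
  have hlim : Epi (limit.lift Q c) := by
    have e : limit.lift Q c = φ ≫ inv (limMap ι) := by rw [← hfac, Category.assoc, IsIso.hom_inv_id, Category.comp_id]
    rw [e]; infer_instance
  have hQ : ∀ n : ℕ, Coh.IsQCoh (Q.obj (op n)) := fun n => by
    rw [hobj]
    exact Groth.L29.DC.isQCoh_kernel' _ (hF n) (Groth.L29.DC.isQCoh_cokernel' _ hG (hF n))
  obtain ⟨N, hN⟩ := eventually_isIso k Q hQ c hG hGc hepi hlim
  haveI : Epi (limit.π Q (op N)) := by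
    haveI := hepi N
    exact epi_of_epi_fac (limit.lift_π c (op N))
  haveI : Mono (limit.π Q (op N)) := ⟨fun a b h => limit.hom_ext fun ⟨n⟩ => by
    rcases le_total n N with hn | hn
    · rw [← limit.w Q (homOfLE hn).op, ← Category.assoc, ← Category.assoc, h]
    · induction n, hn using Nat.le_induction with
      | base => exact h
      | succ m hm ih =>
        haveI := hN m hm
        rw [← cancel_mono (Q.map (homOfLE (Nat.le_succ m)).op), Category.assoc, Category.assoc, limit.w]
        exact ih⟩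
  haveI : IsIso (limit.π Q (op N)) := isIso_of_mono_of_epi _
  let e : limit F ≅ Q.obj (op N) := (asIso (limMap ι)).symm ≪≫ asIso (limit.π Q (op N))
  have hqc : Coh.IsQCoh (limit F) := Groth.L29.DC.isQCoh_of_iso' e.symm (hQ N)
  refine ⟨hqc, fun U hU => ?_, fun hc => ⟨hqc, Groth.L14.Quot.isFT_of_epi φ hc.2⟩⟩
  haveI := hG; haveI := hqc
  obtain ⟨s, hs, hs'⟩ := hGc U hU
  refine ⟨appR φ U '' s, hs.image _, ?_⟩
  rw [Submodule.span_image, hs', Submodule.map_top]
  exact LinearMap.range_eq_top.mpr (Groth.L16.AffineBC.surjective_app_of_epi φ hU)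

end Groth.L06.TowerDiag
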