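import Groth.Agent.L06.TowerDiag.Affine

/-! Towers of quasi-coherent quotients of a countably generated module whose limit is a quotient are
eventually stationary. -/

set_option autoImplicit false
set_option linter.style.haveILetI false
set_option backward.isDefEq.respectTransparency false
set_option backward.isDefEq.respectTransparency.types false

universe u

open CategoryTheory CategoryTheory.Limits TopologicalSpace Opposite AlgebraicGeometry
open Groth.L18.Frame (rs ro rs_rs rs_smul rs_self)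

namespace Groth.L06.TowerDiag

/-- A kernel section vanishes if its kernel is trivial on affine pieces covering the space. -/
theorem mono_of_injective_on_cover {X : Scheme.{u}} {M N : X.Modules} [Coh.IsQCoh M] [Coh.IsQCoh N]
    (φ : M ⟶ N) {ι : Type u} (W : ι → X.Opens) (hW : ∀ i, IsAffineOpen (W i))
    (hcov : ⊤ ≤ iSup W) (h : ∀ i, ∀ v : Γ(M, W i), φ.app (W i) v = 0 → v = 0) : Mono φ := by
  have key : ∀ (V : X.Opens) (v : Γ(M, V)), φ.app V v = 0 → v = 0 := by
    intro V v hv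
    have hloc : ∀ z : X, z ∈ V → ∃ (i : ι) (a : Γ(X, W i)), z ∈ X.basicOpen a ∧ X.basicOpen a ≤ V := by
      intro z hz
      obtain ⟨i, hi⟩ := Opens.mem_iSup.1 (hcov (Opens.mem_top z))
      obtain ⟨a, haV, hza⟩ := (hW i).exists_basicOpen_le (V := V) ⟨z, hz⟩ hi
      exact ⟨i, a, hza, haV⟩
    choose i a hza haV using hloc
    refine TopCat.Sheaf.eq_of_locally_eq' (⟨M.presheaf, M.isSheaf⟩ : TopCat.Sheaf Ab X.toTopCat)
      (fun z : V => X.basicOpen (a z.1 z.2)) V (fun z => homOfLE (haV z.1 z.2))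
      (fun z hz => Opens.mem_iSup.2 ⟨⟨z, hz⟩, hza z hz⟩) v 0 fun z => ?_
    show rs M (haV z.1 z.2) v = rs M (haV z.1 z.2) 0
    have hr0 : rs M (haV z.1 z.2) (0 : Γ(M, V)) = 0 :=
      map_zero (M.presheaf.map (homOfLE (haV z.1 z.2)).op).hom
    rw [hr0]
    obtain ⟨m, t, ht⟩ := Groth.L16.QcqsPush.exists_pow_smul_eq_res M (hW _).isCompact
      (hW _).isQuasiSeparated (a z.1 z.2) (rs M (haV z.1 z.2) v)
    have hz0 : rs N (X.basicOpen_le (a z.1 z.2)) (φ.app (W (i z.1 z.2)) t) = 0 := by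
      rw [← Groth.L16.HomSh.app_rs, ht, Scheme.Modules.Hom.app_smul, Groth.L16.HomSh.app_rs, hv]
      exact (congrArg _ (map_zero (N.presheaf.map (homOfLE (haV z.1 z.2)).op).hom)).trans (smul_zero _)
    obtain ⟨j, hj⟩ := Groth.L16.QcqsPush.exists_pow_smul_eq_zero N (hW _).isCompact _ _ hz0
    have h2 := h _ (a z.1 z.2 ^ j • t) (by rw [Scheme.Modules.Hom.app_smul, hj])
    have h3 := congrArg (rs M (X.basicOpen_le (a z.1 z.2))) h2
    rw [rs_smul, ht, smul_smul] at h3
    have hu : IsUnit (ro (X.basicOpen_le (a z.1 z.2)) (a z.1 z.2 ^ j) *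
        ro (X.basicOpen_le (a z.1 z.2)) (a z.1 z.2 ^ m)) := by
      have h1 : IsUnit (ro (X.basicOpen_le (a z.1 z.2)) (a z.1 z.2)) :=
        RingedSpace.isUnit_res_basicOpen _ _
      have hp : ∀ e : ℕ, IsUnit (ro (X.basicOpen_le (a z.1 z.2)) (a z.1 z.2 ^ e)) := fun e => by
        show IsUnit (X.presheaf.map _ (_ ^ e))
        rw [map_pow]
        exact h1.pow e
      exact (hp j).mul (hp m)
    refine hu.smul_left_cancel.1 (h3.trans ?_)
    rw [smul_zero]
    exact map_zero (M.presheaf.map (homOfLE (X.basicOpen_le (a z.1 z.2))).op).hom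
  refine ⟨fun {A} g₁ g₂ e => Groth.L16.AffineBC.hom_ext_affine _ _ fun V _ m => sub_eq_zero.1 (key V _ ?_)⟩
  rw [map_sub, sub_eq_zero]
  exact ConcreteCategory.congr_hom (congrArg (fun t => Scheme.Modules.Hom.app t V) e) m

theorem eventually_isIso (k : Type u) [Field k] {X : Scheme.{u}} [X.Over (Spec (CommRingCat.of k))]
    [LocallyOfFiniteType (X ↘ Spec (CommRingCat.of k))] [CompactSpace X]
    (Q : ℕᵒᵖ ⥤ X.Modules) (hQ : ∀ n : ℕ, Coh.IsQCoh (Q.obj (op n))) (c : Cone Q)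
    (hG : Coh.IsQCoh c.pt)
    (hGc : ∀ U : X.Opens, IsAffineOpen U → ∃ s : Set Γ(c.pt, U),
      s.Countable ∧ Submodule.span Γ(X, U) s = ⊤)
    (hepi : ∀ n : ℕ, Epi (c.π.app (op n))) (hlim : Epi (limit.lift Q c)) :
    ∃ N : ℕ, ∀ n : ℕ, N ≤ n → IsIso (Q.map (homOfLE (Nat.le_succ n)).op) := by
  obtain ⟨ι, _, W, hW, -, hcov⟩ :=
    Groth.L16.QcqsPush.exists_affine_cover (U := (⊤ : X.Opens)) CompactSpace.isCompact_univ
  haveI := Fintype.ofFinite ι
  have h : ∀ i, ∃ N : ℕ, ∀ n, N ≤ n → ∀ v : Γ(Q.obj (op (n + 1)), W i),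
      (Q.map (homOfLE (Nat.le_succ n)).op).app (W i) v = 0 → v = 0 := fun i => by
    obtain ⟨s, hs, hs'⟩ := hGc (W i) (hW i)
    exact exists_injective k Q hQ c hG hepi hlim (hW i) s hs hs'
  choose N hN using h
  refine ⟨Finset.univ.sup N, fun n hn => ?_⟩
  haveI := hQ n
  haveI := hQ (n + 1)
  haveI := hepi n
  haveI : Epi (Q.map (homOfLE (Nat.le_succ n)).op) := epi_of_epi_fac (c.w (homOfLE (Nat.le_succ n)).op)
  haveI : Mono (Q.map (homOfLE (Nat.le_succ n)).op) := mono_of_injective_on_cover _ W hW hcov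
    fun i => hN i n ((Finset.le_sup (Finset.mem_univ i)).trans hn)
  exact isIso_of_mono_of_epi _

end Groth.L06.TowerDiag
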