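import Groth.Agent.L06.TowerDiag.LimOne
import Groth.Agent.L06.TowerDiag.Main
import Groth.Agent.L29.DCoh.QCohOps

/-! The Mittag-Leffler condition for towers of quasi-coherent modules and the first derived limit. -/

set_option autoImplicit false
set_option linter.style.haveILetI false
set_option backward.isDefEq.respectTransparency false
set_option backward.isDefEq.respectTransparency.types false

universe u

open CategoryTheory CategoryTheory.Limits TopologicalSpace Opposite AlgebraicGeometry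
open Groth.L18.Frame (rs ro rs_rs rs_smul rs_self)

noncomputable section

namespace Groth.L06.TowerDiag

variable {X : Scheme.{u}}

/-- A map of quasi-coherent modules vanishing on affine pieces covering the space vanishes. -/
theorem eq_zero_on_cover {M N : X.Modules} [Coh.IsQCoh M] [Coh.IsQCoh N] (φ : M ⟶ N)
    {ι : Type u} (W : ι → X.Opens) (hW : ∀ i, IsAffineOpen (W i)) (hcov : ⊤ ≤ iSup W)
    (h : ∀ i, ∀ x : Γ(M, W i), φ.app (W i) x = 0) : φ = 0 := by
  haveI : Coh.IsQCoh (Abelian.image φ) :=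
    Groth.L29.DC.isQCoh_kernel' _ ‹Coh.IsQCoh N› (Groth.L29.DC.isQCoh_cokernel' _ ‹Coh.IsQCoh M› ‹Coh.IsQCoh N›)
  haveI : Mono (0 : Abelian.image φ ⟶ N) := mono_of_injective_on_cover _ W hW hcov fun i v _ => by
    obtain ⟨x, rfl⟩ := Groth.L16.AffineBC.surjective_app_of_epi (Abelian.factorThruImage φ) (hW i) v
    refine Groth.L04.KSh.app_injective_of_mono (Abelian.image.ι φ) (W i) ?_
    rw [map_zero]
    exact (ConcreteCategory.congr_hom
      (congrArg (fun t => Scheme.Modules.Hom.app t (W i)) (Abelian.image.fac φ)) x).trans (h i x)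
  have hz : IsZero (Abelian.image φ) := IsZero.of_mono_zero (Abelian.image φ) N
  rw [← Abelian.image.fac φ, hz.eq_of_src (Abelian.image.ι φ) 0, comp_zero]

/-- The image of an affine section. -/
theorem mem_range_iff_cokernel {M N : X.Modules} [Coh.IsQCoh M] [Coh.IsQCoh N] (φ : M ⟶ N)
    {U : X.Opens} (hU : IsAffineOpen U) (y : Γ(N, U)) :
    (∃ x, φ.app U x = y) ↔ (cokernel.π φ).app U y = 0 := by
  constructor
  · rintro ⟨x, rfl⟩
    exact ConcreteCategory.congr_hom (congrArg (fun t => Scheme.Modules.Hom.app t U) (cokernel.condition φ)) x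
  · intro hy
    haveI : Coh.IsQCoh (Abelian.image φ) :=
      Groth.L29.DC.isQCoh_kernel' _ ‹Coh.IsQCoh N› (Groth.L29.DC.isQCoh_cokernel' _ ‹Coh.IsQCoh M› ‹Coh.IsQCoh N›)
    let a' := (Groth.L10.SiteCover.sec X.sheaf U N).symm y
    have h0 : a' ≫ cokernel.π φ = 0 := by
      refine (Groth.L10.SiteCover.sec X.sheaf U (cokernel φ)).injective ?_
      rw [Groth.L10.SiteCover.sec_comp, Equiv.apply_symm_apply]
      refine hy.trans ?_
      rw [← comp_zero (f := a') (Z := cokernel φ), Groth.L10.SiteCover.sec_comp, Functor.map_zero]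
      rfl
    let b := Groth.L10.SiteCover.sec X.sheaf U (Abelian.image φ) (kernel.lift _ a' h0)
    obtain ⟨x, hx⟩ := Groth.L16.AffineBC.surjective_app_of_epi (Abelian.factorThruImage φ) hU b
    refine ⟨x, ?_⟩
    have hb : (Abelian.image.ι φ).app U b = y := by
      have h := Groth.L10.SiteCover.sec_comp (O := X.sheaf) U (kernel.lift _ a' h0) (Abelian.image.ι φ)
      rw [kernel.lift_ι, Equiv.apply_symm_apply] at h
      exact h.symm
    rw [← hb, ← hx]
    exact (ConcreteCategory.congr_hom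
      (congrArg (fun t => Scheme.Modules.Hom.app t U) (Abelian.image.fac φ)) x).symm

/-- Equality of images through the cokernel. -/
theorem imageSubobject_le_of_comp_cokernel {C : Type*} [Category C] [Abelian C] {A B Z : C} (f : A ⟶ Z)
    (g : B ⟶ Z) (h : f ≫ cokernel.π g = 0) : imageSubobject f ≤ imageSubobject g := by
  have e : kernelSubobject (cokernel.π g) = imageSubobject g := by
    refine le_antisymm ?_ (image_le_kernel g (cokernel.π g) (cokernel.condition g))
    refine Subobject.le_of_comm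
      ((kernelSubobjectIso _).hom ≫ (Abelian.imageIsoImage g).hom ≫ (imageSubobjectIso g).inv) ?_
    simp [Abelian.imageIsoImage_hom_comp_image_ι, imageSubobject_arrow']
  rw [← e]
  exact image_le_kernel f _ h

variable (F : ℕᵒᵖ ⥤ X.Modules)

/-- Mittag-Leffler on sections over affine opens. -/
def MLAffine : Prop :=
  ∀ n : ℕ, ∃ (m : ℕ) (hm : n ≤ m), ∀ U : X.Opens, IsAffineOpen U → ∀ (m' : ℕ) (hm' : m ≤ m'),
    rangeT F hm U ≤ rangeT F (hm.trans hm') U

theorem mlAffine_of_imageSubobject (hF : ∀ n : ℕ, Coh.IsQCoh (F.obj (op n)))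
    (h : ∀ n : ℕ, ∃ (m : ℕ) (hm : n ≤ m), ∀ (m' : ℕ) (hm' : m ≤ m'),
      imageSubobject (F.map (homOfLE (hm.trans hm')).op) = imageSubobject (F.map (homOfLE hm).op)) :
    MLAffine F := by
  intro n
  obtain ⟨m, hm, he⟩ := h n
  refine ⟨m, hm, fun U hU m' hm' => ?_⟩
  rintro _ ⟨x, rfl⟩
  haveI := hF n
  haveI := hF m'
  refine (mem_range_iff_cokernel (F.map (homOfLE (hm.trans hm')).op) hU _).mpr ?_
  have h0 : F.map (homOfLE hm).op ≫ cokernel.π (F.map (homOfLE (hm.trans hm')).op) = 0 := by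
    have hle := (he m' hm').ge
    rw [← imageSubobject_arrow_comp (F.map (homOfLE hm).op), ← Subobject.ofLE_arrow hle, Category.assoc,
      Category.assoc, show (imageSubobject (F.map (homOfLE (hm.trans hm')).op)).arrow ≫
        cokernel.π (F.map (homOfLE (hm.trans hm')).op) = 0 from
        (cancel_epi (factorThruImageSubobject _)).mp (by
          rw [imageSubobject_arrow_comp_assoc, cokernel.condition, comp_zero]), comp_zero, comp_zero]
  exact ConcreteCategory.congr_hom (congrArg (fun t => Scheme.Modules.Hom.app t U) h0) x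

theorem imageSubobject_of_cover [CompactSpace X] (hF : ∀ n : ℕ, Coh.IsQCoh (F.obj (op n)))
    (h : ∀ U : X.Opens, IsAffineOpen U → ∀ n : ℕ, ∃ (m : ℕ) (hm : n ≤ m), ∀ (m' : ℕ) (hm' : m ≤ m'),
      rangeT F hm U ≤ rangeT F (hm.trans hm') U) :
    ∀ n : ℕ, ∃ (m : ℕ) (hm : n ≤ m), ∀ (m' : ℕ) (hm' : m ≤ m'),
      imageSubobject (F.map (homOfLE (hm.trans hm')).op) = imageSubobject (F.map (homOfLE hm).op) := by
  intro n
  obtain ⟨ι, _, W, hW, -, hcov⟩ := Groth.L16.QcqsPush.exists_affine_cover (X := X) (U := ⊤)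
    CompactSpace.isCompact_univ
  haveI := Fintype.ofFinite ι
  choose m hm hstab using fun i => h (W i) (hW i) n
  refine ⟨max n (Finset.univ.sup m), le_max_left _ _, fun m' hm' => le_antisymm ?_ ?_⟩
  · rw [show (homOfLE ((le_max_left _ _).trans hm')).op =
      (homOfLE hm').op ≫ (homOfLE (le_max_left n (Finset.univ.sup m))).op from rfl, F.map_comp]
    exact imageSubobject_comp_le _ _
  · refine imageSubobject_le_of_comp_cokernel _ _ ?_
    haveI := hF n
    haveI := hF m'
    haveI := hF (max n (Finset.univ.sup m))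
    haveI := Groth.L29.DC.isQCoh_cokernel' (F.map (homOfLE ((le_max_left _ _).trans hm')).op) (hF m') (hF n)
    refine eq_zero_on_cover _ W hW hcov fun i x => ?_
    have hmi : m i ≤ max n (Finset.univ.sup m) := (Finset.le_sup (Finset.mem_univ i)).trans (le_max_right _ _)
    exact (mem_range_iff_cokernel _ (hW i) _).mp
      (hstab i m' (hmi.trans hm') (rangeT_anti F (hm i) hmi (W i) ⟨x, rfl⟩))

/-- A Mittag-Leffler tower of modules has no derived limit. -/
theorem exists_towerDiff_preimage (h : MLAffine F) {U : X.Opens} (hU : IsAffineOpen U)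
    (y : ∀ n : ℕ, Γ(F.obj (op n), U)) :
    ∃ x : ∀ n : ℕ, Γ(F.obj (op n), U),
      ∀ n, x n - (F.map (homOfLE (Nat.le_succ n)).op).app U (x (n + 1)) = y n := by
  classical
  choose m₀ hm₀ hst using h
  let m : ℕ → ℕ := fun n => (Finset.range (n + 1)).sup m₀
  have hmn : ∀ n, n ≤ m n := fun n => (hm₀ n).trans (Finset.le_sup (Finset.self_mem_range_succ n))
  have hmono : ∀ n, m n ≤ m (n + 1) := fun n => Finset.sup_mono (Finset.range_mono (Nat.le_succ _))
  have hstab : ∀ n (j : ℕ) (hj : m n ≤ j), rangeT F (hmn n) U ≤ rangeT F ((hmn n).trans hj) U := by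
    intro n j hj
    have h0 : m₀ n ≤ m n := Finset.le_sup (Finset.self_mem_range_succ n)
    exact (rangeT_anti F (hm₀ n) h0 U).trans (hst n U hU j (h0.trans hj))
  let T : ∀ n j, Γ(F.obj (op n), U) := fun n j =>
    if hj : n ≤ j then (F.map (homOfLE hj).op).app U (y j) else 0
  let z : ∀ n, Γ(F.obj (op n), U) := fun n => ∑ j ∈ Finset.Ico n (m n), T n j
  let r : ∀ n, Γ(F.obj (op n), U) := fun n =>
    y n - (z n - (F.map (homOfLE (Nat.le_succ n)).op).app U (z (n + 1)))
  have hr : ∀ n, r n ∈ rangeT F (hmn n) U := by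
    intro n
    have hT : ∀ j, n + 1 ≤ j → (F.map (homOfLE (Nat.le_succ n)).op).app U (T (n + 1) j) = T n j := by
      intro j hj
      simp only [T, dif_pos hj, dif_pos ((Nat.le_succ n).trans hj)]
      exact app_map_comp F U _ _ _
    have e1 : (F.map (homOfLE (Nat.le_succ n)).op).app U (z (n + 1)) =
        ∑ j ∈ Finset.Ico (n + 1) (m (n + 1)), T n j := by
      show (F.map (homOfLE (Nat.le_succ n)).op).app U (∑ j ∈ _, T (n + 1) j) = _
      rw [map_sum]
      exact Finset.sum_congr rfl fun j hj => hT j (Finset.mem_Ico.mp hj).1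
    have e2 : T n n = y n := by
      simp only [T, dif_pos le_rfl]
      exact ConcreteCategory.congr_hom
        (congrArg (fun t => Scheme.Modules.Hom.app t U) (F.map_id (op n))) (y n)
    have e3 : r n = ∑ j ∈ Finset.Ico (m n) (m (n + 1)), T n j := by
      show y n - (z n - _) = _
      rw [e1, ← e2]
      show T n n - (∑ j ∈ Finset.Ico n (m n), T n j - _) = _
      rw [Finset.sum_Ico_eq_sub _ ((hmn n).trans' le_rfl), Finset.sum_Ico_eq_sub _ (hmn (n + 1)),
        Finset.sum_Ico_eq_sub _ (hmono n), Finset.sum_range_succ]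
      abel
    rw [e3]
    refine Submodule.sum_mem _ fun j hj => ?_
    obtain ⟨hj1, -⟩ := Finset.mem_Ico.mp hj
    simp only [T, dif_pos ((hmn n).trans hj1)]
    exact rangeT_anti F (hmn n) hj1 U ⟨y j, rfl⟩
  have hlift : ∀ n (a : Γ(F.obj (op n), U)), a ∈ rangeT F (hmn n) U →
      ∃ b, b ∈ rangeT F (hmn (n + 1)) U ∧ (F.map (homOfLE (Nat.le_succ n)).op).app U b = a := by
    intro n a ha
    obtain ⟨v, rfl⟩ := hstab n (m (n + 1)) (hmono n) ha
    exact ⟨_, ⟨v, rfl⟩, app_map_comp F U _ _ v⟩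
  choose lift hlift₁ hlift₂ using hlift
  let w : ∀ n, { a : Γ(F.obj (op n), U) // a ∈ rangeT F (hmn n) U } := fun n =>
    Nat.rec (motive := fun n => { a : Γ(F.obj (op n), U) // a ∈ rangeT F (hmn n) U })
      ⟨0, Submodule.zero_mem _⟩
      (fun n a => ⟨lift n (a.1 - r n) (Submodule.sub_mem _ a.2 (hr n)), hlift₁ n _ _⟩) n
  refine ⟨fun n => z n + (w n).1, fun n => ?_⟩
  have e : (F.map (homOfLE (Nat.le_succ n)).op).app U (w (n + 1)).1 = (w n).1 - r n := hlift₂ n _ _
  rw [map_add, e]
  show z n + (w n).1 - (_ + ((w n).1 - (y n - (z n - _)))) = y n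
  abel

/-- The derived limit of a Mittag-Leffler tower vanishes. -/
theorem isZero_limOneSh (h : MLAffine F) : IsZero (LimSh.limOneSh F) := by
  have hπ : cokernel.π (LimSh.towerDiffSh F) = 0 := by
    refine Groth.L16.AffineBC.hom_ext_affine _ _ fun U hU a => ?_
    obtain ⟨x, hx⟩ := exists_towerDiff_preimage F h hU
      fun n => (Pi.π (fun n : ℕ => F.obj (op n)) n).app U a
    obtain ⟨x', hx'⟩ := exists_section_pi (fun n : ℕ => F.obj (op n)) U x
    have ha : a = (LimSh.towerDiffSh F).app U x' := by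
      refine section_pi_ext _ U fun n => ?_
      rw [towerDiff_app, hx', hx', hx]
    rw [ha]
    exact (ConcreteCategory.congr_hom
      (congrArg (fun t => Scheme.Modules.Hom.app t U) (cokernel.condition (LimSh.towerDiffSh F))) x').trans rfl
  rw [IsZero.iff_id_eq_zero]
  show 𝟙 (cokernel (LimSh.towerDiffSh F)) = 0
  rw [← cancel_epi (cokernel.π (LimSh.towerDiffSh F)), hπ, zero_comp, zero_comp]

theorem isQCoh_of_isZero {N : X.Modules} (hN : Coh.IsQCoh N) {M : X.Modules} (hM : IsZero M) :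
    Coh.IsQCoh M := by
  have h := Groth.L29.DC.isQCoh_cokernel' (𝟙 N) hN hN
  exact Groth.L29.DC.isQCoh_of_iso' (isZero_cokernel_of_epi _ |>.iso hM) h

theorem span_empty_of_isZero {M : X.Modules} (hM : IsZero M) (U : X.Opens) :
    ∃ s : Set Γ(M, U), s.Countable ∧ Submodule.span Γ(X, U) s = ⊤ := by
  refine ⟨∅, Set.countable_empty, eq_top_iff.mpr fun x _ => ?_⟩
  have h : x = 0 := by
    have e := congrArg (fun t => Scheme.Modules.Hom.app t U) (hM.eq_of_src (𝟙 M) 0)
    exact ConcreteCategory.congr_hom e x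
  rw [h]
  exact Submodule.zero_mem _

/-- Countable generation of the derived limit gives the Mittag-Leffler condition. -/
theorem imageSubobject_of_countable (k : Type u) [Field k] [X.Over (Spec (CommRingCat.of k))]
    [LocallyOfFiniteType (X ↘ Spec (CommRingCat.of k))] [CompactSpace X]
    (hF : ∀ n : ℕ, Coh.IsQCoh (F.obj (op n)))
    (hFc : ∀ (n : ℕ) (U : X.Opens), IsAffineOpen U →
      ∃ s : Set Γ(F.obj (op n), U), s.Countable ∧ Submodule.span Γ(X, U) s = ⊤)
    (hc : ∀ U : X.Opens, IsAffineOpen U →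
      ∃ s : Set Γ(LimSh.limOneSh F, U), s.Countable ∧ Submodule.span Γ(X, U) s = ⊤) :
    ∀ n : ℕ, ∃ (m : ℕ) (hm : n ≤ m), ∀ (m' : ℕ) (hm' : m ≤ m'),
      imageSubobject (F.map (homOfLE (hm.trans hm')).op) = imageSubobject (F.map (homOfLE hm).op) :=
  imageSubobject_of_cover F hF fun U hU n => stable_range k F hF hU (fun n => hFc n U hU) (hc U hU) n

end Groth.L06.TowerDiag
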