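import Groth.Agent.L06.TowerDiag.ML
import Groth.Agent.L06.TowerDiag.Limit
import Groth.Agent.L10.HExact.SchemeExact

/-! Tensoring the limit of a tower of countably quasi-coherent modules with a flat module. -/

set_option autoImplicit false
set_option linter.style.haveILetI false
set_option backward.isDefEq.respectTransparency false
set_option backward.isDefEq.respectTransparency.types false

universe u

open CategoryTheory CategoryTheory.Limits TopologicalSpace Opposite AlgebraicGeometry

noncomputable section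

namespace Groth.L06.TowerDiag

variable {X : Scheme.{u}}

theorem mono_tensorRight_map (E : X.Modules) (hE : FlatMod.IsFlat E) {M N : X.Modules} (f : M ⟶ N) [Mono f] :
    Mono ((LimSh.tensorRight E).map f) :=
  Groth.L10.HExact.SchemeExact.mono_tensor_of_flat E hE f

/-- A countably quasi-coherent limit is a submodule of a far enough member. -/
theorem exists_mono_limit_π (k : Type u) [Field k] [X.Over (Spec (CommRingCat.of k))]
    [LocallyOfFiniteType (X ↘ Spec (CommRingCat.of k))] [CompactSpace X]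
    (F : ℕᵒᵖ ⥤ X.Modules) (hF : ∀ n : ℕ, Coh.IsQCoh (F.obj (op n))) (hL : Coh.IsQCoh (limit F))
    (hLc : ∀ U : X.Opens, IsAffineOpen U → ∃ s : Set Γ(limit F, U),
      s.Countable ∧ Submodule.span Γ(X, U) s = ⊤) :
    ∃ N : ℕ, Mono (limit.π F (op N)) := by
  let g : ∀ n : ℕᵒᵖ, limit F ⟶ F.obj n := fun n => limit.π F n
  obtain ⟨Q, ι, π, hι, hπ, hπι, hobj⟩ := exists_image_tower F (limit F) g (fun h => limit.w F h)
  let c : Cone Q := ⟨limit F, π⟩
  have hepi : ∀ n : ℕ, Epi (c.π.app (op n)) := fun n => hπ _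
  have hfac : limit.lift Q c ≫ limMap ι = 𝟙 (limit F) := limit.hom_ext fun n => by
    rw [Category.assoc, limMap_π, ← Category.assoc, limit.lift_π, Category.id_comp]
    exact hπι n
  haveI : ∀ n, Mono (ι.app n) := hι
  haveI : Mono (limMap ι) := ⟨fun a b h => limit.hom_ext fun n => by
    rw [← cancel_mono (ι.app n), Category.assoc, Category.assoc, ← limMap_π, ← Category.assoc,
      ← Category.assoc, h]⟩
  haveI : IsSplitEpi (limMap ι) := IsSplitEpi.mk' ⟨limit.lift Q c, hfac⟩
  haveI : IsIso (limMap ι) := isIso_of_mono_of_epi _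
  have hlim : Epi (limit.lift Q c) := by
    have e : limit.lift Q c = inv (limMap ι) := by
      rw [← cancel_mono (limMap ι), hfac, IsIso.inv_hom_id]
    rw [e]; infer_instance
  have hQ : ∀ n : ℕ, Coh.IsQCoh (Q.obj (op n)) := fun n => by
    rw [hobj]
    exact Groth.L29.DC.isQCoh_kernel' _ (hF n) (Groth.L29.DC.isQCoh_cokernel' _ hL (hF n))
  obtain ⟨N, hN⟩ := eventually_isIso k Q hQ c hL hLc hepi hlim
  haveI : Mono (limit.π Q (op N)) := ⟨fun a b h => limit.hom_ext fun ⟨n⟩ => by
    rcases le_total n N with hn | hn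
    · rw [← limit.w Q (homOfLE hn).op, ← Category.assoc, ← Category.assoc, h]
    · induction n, hn using Nat.le_induction with
      | base => exact h
      | succ m hm ih =>
        haveI := hN m hm
        rw [← cancel_mono (Q.map (homOfLE (Nat.le_succ m)).op), Category.assoc, Category.assoc, limit.w]
        exact ih⟩
  refine ⟨N, ?_⟩
  have e : limit.π F (op N) = inv (limMap ι) ≫ limit.π Q (op N) ≫ ι.app (op N) := by
    rw [← limMap_π, IsIso.inv_hom_id_assoc]
  rw [e]
  infer_instance

theorem mono_limit_post (k : Type u) [Field k] [X.Over (Spec (CommRingCat.of k))]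
    [LocallyOfFiniteType (X ↘ Spec (CommRingCat.of k))] [CompactSpace X]
    (F : ℕᵒᵖ ⥤ X.Modules) (hF : ∀ n : ℕ, Coh.IsQCoh (F.obj (op n)))
    (E : X.Modules) (hE : FlatMod.IsFlat E) (hL : Coh.IsQCoh (limit F))
    (hLc : ∀ U : X.Opens, IsAffineOpen U → ∃ s : Set Γ(limit F, U),
      s.Countable ∧ Submodule.span Γ(X, U) s = ⊤) :
    Mono (limit.post F (LimSh.tensorRight E)) := by
  obtain ⟨N, hN⟩ := exists_mono_limit_π k F hF hL hLc
  haveI := mono_tensorRight_map E hE (limit.π F (op N))
  exact mono_of_mono_fac (limit.post_π F (LimSh.tensorRight E) (op N))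

/-- Over a Mittag-Leffler tower the limit surjects onto the stable image. -/
theorem exists_limit_section (F : ℕᵒᵖ ⥤ X.Modules) (h : MLAffine F) {U : X.Opens} (hU : IsAffineOpen U)
    {n m : ℕ} (hm : n ≤ m) (hst : ∀ (m' : ℕ) (hm' : m ≤ m'), rangeT F hm U ≤ rangeT F (hm.trans hm') U)
    (x : Γ(F.obj (op m), U)) :
    ∃ l : Γ(limit F, U), (limit.π F (op n)).app U l = (F.map (homOfLE hm).op).app U x := by
  classical
  choose m₀ hm₀ hst₀ using h
  let M : ℕ → ℕ := fun i => max m ((Finset.range (i + 1)).sup m₀)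
  have hmono : ∀ i, M i ≤ M (i + 1) := fun i =>
    max_le_max le_rfl (Finset.sup_mono (Finset.range_mono (Nat.le_succ _)))
  have hM : ∀ i, i ≤ M i := fun i =>
    ((hm₀ i).trans (Finset.le_sup (Finset.self_mem_range_succ i))).trans (le_max_right _ _)
  have hstab : ∀ i (j : ℕ) (hj : M i ≤ j), rangeT F (hM i) U ≤ rangeT F ((hM i).trans hj) U := by
    intro i j hj
    have h0 : m₀ i ≤ M i := (Finset.le_sup (Finset.self_mem_range_succ i)).trans (le_max_right _ _)
    exact (rangeT_anti F (hm₀ i) h0 U).trans (hst₀ i U hU j (h0.trans hj))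
  have hsucc : ∀ i (a : Γ(F.obj (op i), U)), a ∈ rangeT F (hM i) U →
      ∃ b, b ∈ rangeT F (hM (i + 1)) U ∧ (F.map (homOfLE (Nat.le_succ i)).op).app U b = a := by
    intro i a ha
    obtain ⟨v, rfl⟩ := hstab i (M (i + 1)) (hmono i) ha
    exact ⟨_, ⟨v, rfl⟩, app_map_comp F U _ _ v⟩
  choose lift hlift₁ hlift₂ using hsucc
  obtain ⟨v, hv⟩ : (F.map (homOfLE hm).op).app U x ∈ rangeT F (hM n) U :=
    hst (M n) (le_max_left _ _) ⟨x, rfl⟩
  let w : ∀ d : ℕ, { a : Γ(F.obj (op (n + d)), U) // a ∈ rangeT F (hM (n + d)) U } := fun d =>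
    Nat.rec (motive := fun d => { a : Γ(F.obj (op (n + d)), U) // a ∈ rangeT F (hM (n + d)) U })
      ⟨(F.map (homOfLE hm).op).app U x, ⟨v, hv⟩⟩
      (fun d a => ⟨lift (n + d) a.1 a.2, hlift₁ (n + d) _ _⟩) d
  let y : ∀ i, Γ(F.obj (op i), U) := fun i =>
    (F.map (homOfLE (Nat.le_add_left i n)).op).app U (w i).1
  have hw : ∀ (a b : ℕ) (hab : a ≤ b),
      (F.map (homOfLE (Nat.add_le_add_left hab n)).op).app U (w b).1 = (w a).1 := by
    intro a b hab
    induction hab with
    | refl =>
      exact ConcreteCategory.congr_hom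
        (congrArg (fun t => Scheme.Modules.Hom.app t U) (F.map_id (op (n + a)))) (w a).1
    | @step b hab ih =>
      refine (app_map_comp F U (Nat.add_le_add_left hab n) (Nat.le_succ (n + b)) _).symm.trans ?_
      exact (congrArg _ (hlift₂ (n + b) (w b).1 (w b).2)).trans ih
  obtain ⟨l, hl⟩ := Groth.L17.FormalLimit.sect_lift F U y fun i => by
    show (F.map _).app U ((F.map _).app U (w (i + 1)).1) = (F.map _).app U (w i).1
    rw [← hw i (i + 1) (Nat.le_succ i), app_map_comp, app_map_comp]
  refine ⟨l, (hl n).trans ?_⟩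
  show (F.map _).app U (w n).1 = _
  exact hw 0 n (Nat.zero_le n)

theorem isIso_limit_post (k : Type u) [Field k] [X.Over (Spec (CommRingCat.of k))]
    [LocallyOfFiniteType (X ↘ Spec (CommRingCat.of k))] [CompactSpace X]
    (F : ℕᵒᵖ ⥤ X.Modules) (hF : ∀ n : ℕ, Coh.IsQCoh (F.obj (op n)))
    (hFc : ∀ (n : ℕ) (U : X.Opens), IsAffineOpen U →
      ∃ s : Set Γ(F.obj (op n), U), s.Countable ∧ Submodule.span Γ(X, U) s = ⊤)
    (E : X.Modules) (hE : FlatMod.IsFlat E) (hL : Coh.IsQCoh (limit F))
    (hLc : ∀ U : X.Opens, IsAffineOpen U → ∃ s : Set Γ(limit F, U),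
      s.Countable ∧ Submodule.span Γ(X, U) s = ⊤)
    (h0 : IsZero (LimSh.limOneSh F)) :
    IsIso (limit.post F (LimSh.tensorRight E)) := by
  obtain ⟨N, hN⟩ := exists_mono_limit_π k F hF hL hLc
  have hML : MLAffine F := mlAffine_of_imageSubobject F hF
    (imageSubobject_of_countable F k hF hFc fun U _ => span_empty_of_isZero h0 U)
  let T := LimSh.tensorRight E
  -- factorization of a transition map through the limit
  have key : ∀ n : ℕ, N ≤ n → ∃ (m : ℕ) (hm : n ≤ m) (r : F.obj (op m) ⟶ limit F),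
      r ≫ limit.π F (op n) = F.map (homOfLE hm).op ∧ limit.π F (op m) ≫ r = 𝟙 _ := by
    intro n hn
    haveI : Mono (limit.π F (op n)) := by
      haveI := hN
      exact mono_of_mono_fac (limit.w F (homOfLE hn).op)
    obtain ⟨m, hm, hst⟩ := hML n
    haveI := hL
    haveI := hF n
    haveI := hF m
    haveI := Groth.L29.DC.isQCoh_cokernel' (limit.π F (op n)) hL (hF n)
    have h : F.map (homOfLE hm).op ≫ cokernel.π (limit.π F (op n)) = 0 :=
      Groth.L16.AffineBC.hom_ext_affine _ _ fun U hU x => by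
        obtain ⟨l, hl⟩ := exists_limit_section F hML hU hm (hst U hU) x
        show (cokernel.π (limit.π F (op n))).app U ((F.map (homOfLE hm).op).app U x) = 0
        rw [← hl]
        exact (mem_range_iff_cokernel _ hU _).mp ⟨l, rfl⟩
    refine ⟨m, hm, Abelian.monoLift (limit.π F (op n)) _ h, Abelian.monoLift_comp _ _ _, ?_⟩
    rw [← cancel_mono (limit.π F (op n)), Category.assoc, Abelian.monoLift_comp, limit.w,
      Category.id_comp]
  obtain ⟨m, hm, r, hr, hr'⟩ := key N le_rfl
  haveI := hN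
  refine ⟨limit.π (F ⋙ T) (op m) ≫ T.map r, ?_, ?_⟩
  · rw [← Category.assoc, limit.post_π, ← T.map_comp, hr', T.map_id]
  · refine limit.hom_ext fun j => ?_
    obtain ⟨n⟩ := j
    rw [Category.assoc, Category.assoc, limit.post_π, ← T.map_comp, Category.id_comp]
    have hcase : ∀ n, N ≤ n →
        limit.π (F ⋙ T) (op m) ≫ T.map (r ≫ limit.π F (op n)) = limit.π (F ⋙ T) (op n) := by
      intro n hn
      obtain ⟨m', hm', r', hr₁, -⟩ := key n hn
      obtain ⟨b, hmb, hm'b⟩ : ∃ b, m ≤ b ∧ m' ≤ b := ⟨max m m', le_max_left _ _, le_max_right _ _⟩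
      have hrb : F.map (homOfLE hm'b).op ≫ r' = F.map (homOfLE hmb).op ≫ r := by
        haveI : Mono (limit.π F (op n) ≫ F.map (homOfLE hn).op) := by rw [limit.w]; exact hN
        rw [← cancel_mono (limit.π F (op n) ≫ F.map (homOfLE hn).op)]
        simp only [Category.assoc]
        rw [reassoc_of% hr₁, limit.w, hr, ← F.map_comp, ← F.map_comp, ← F.map_comp]
        exact congrArg F.map (Subsingleton.elim _ _)
      rw [← limit.w (F ⋙ T) (homOfLE hmb).op, ← limit.w (F ⋙ T) (homOfLE (hm'.trans hm'b)).op,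
        Category.assoc]
      refine congrArg (limit.π (F ⋙ T) (op b) ≫ ·) ?_
      show T.map (F.map (homOfLE hmb).op) ≫ T.map (r ≫ limit.π F (op n)) = T.map (F.map _)
      rw [← T.map_comp]
      refine congrArg T.map ?_
      rw [← reassoc_of% hrb, hr₁, ← F.map_comp]
      exact congrArg F.map (Subsingleton.elim _ _)
    rcases le_total N n with hn | hn
    · exact hcase n hn
    · have h1 := congrArg (fun t => t ≫ (F ⋙ T).map (homOfLE hn).op) (hcase N le_rfl)
      simp only [limit.w] at h1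
      refine Eq.trans ?_ h1
      show _ = (_ ≫ T.map _) ≫ T.map _
      rw [Category.assoc, ← T.map_comp, Category.assoc, limit.w]

end Groth.L06.TowerDiag
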